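import Cfsg.Agent.H12.SUFour.Orth.Lemmas

/-!
The rational structure with totally singular rational planes: a moved plane yields a rational transvection.
-/

set_option autoImplicit false

namespace Cfsg.Agent.H12.SUFour.Orth

open scoped MatrixGroups Matrix
open Matrix Cfsg.Agent.H95 Cfsg.Agent.Symplectic
open Cfsg.Agent.H98.UnitaryOrth (UE)

variable {ι : Type} [Fintype ι] [DecidableEq ι] {F : Type*} [Field F]
  {σ : F ≃+* F} {f : (ι → F) → (ι → F) → F} {cj : (ι → F) → ι → F} {M : Subgroup (GL ι F)}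

/-- An element of `M` fixing a totally singular plane pointwise. -/
def El (σ : F ≃+* F) (f : (ι → F) → (ι → F) → F) (M : Subgroup (GL ι F)) (p q : ι → F) (a b c : F) : Prop :=
  ∃ k ∈ M, ∀ x, (k : Matrix ι ι F) *ᵥ x = x + (a * f x p - σ b * f x q) • p + (b * f x p + c * f x q) • q

section El

variable (hf : Cfsg.Geo.IsUnitaryForm σ f) {p q : ι → F} {a b c : F}
include hf

theorem El.add {a' b' c' : F} (hpp : f p p = 0) (hqq : f q q = 0) (hpq : f p q = 0) (h : El σ f M p q a b c)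
    (h' : El σ f M p q a' b' c') : El σ f M p q (a + a') (b + b') (c + c') := by
  obtain ⟨k, hk, hkx⟩ := h
  obtain ⟨l, hl, hlx⟩ := h'
  refine ⟨k * l, M.mul_mem hk hl, fun x => ?_⟩
  rw [mul_mulVec, hkx, hlx]
  simp only [u_add_left hf, u_smul_left hf, hpp, hqq, hpq, u_symm_zero hf hpq, map_add]
  match_scalars <;> ring

theorem El.neg (hpp : f p p = 0) (hqq : f q q = 0) (hpq : f p q = 0) (h : El σ f M p q a b c) :
    El σ f M p q (-a) (-b) (-c) := by
  obtain ⟨k, hk, hkx⟩ := h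
  refine ⟨k⁻¹, M.inv_mem hk, fun x => ?_⟩
  set y := x + (-a * f x p - σ (-b) * f x q) • p + (-b * f x p + -c * f x q) • q with hy
  have h1 : (k : Matrix ι ι F) *ᵥ y = x := by
    rw [hkx, hy]
    simp only [u_add_left hf, u_smul_left hf, hpp, hqq, hpq, u_symm_zero hf hpq, map_neg]
    match_scalars <;> ring
  conv_lhs => rw [← h1]
  rw [inv_mulVec_mulVec]

theorem El.sub {a' b' c' : F} (hpp : f p p = 0) (hqq : f q q = 0) (hpq : f p q = 0) (h : El σ f M p q a b c)
    (h' : El σ f M p q a' b' c') : El σ f M p q (a - a') (b - b') (c - c') := by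
  simpa only [sub_eq_add_neg] using El.add hf hpp hqq hpq h (El.neg hf hpp hqq hpq h')

omit hf in
theorem El.congr {a' b' c' : F} (h : El σ f M p q a b c) (ha : a = a') (hb : b = b') (hc : c = c') :
    El σ f M p q a' b' c' := ha ▸ hb ▸ hc ▸ h

theorem El.conj (h : El σ f M p q a b c) {g : GL ι F} (hg : g ∈ M) (hgi : g ∈ isoGrp f) :
    El σ f M ((g : Matrix ι ι F) *ᵥ p) ((g : Matrix ι ι F) *ᵥ q) a b c := by
  obtain ⟨k, hk, hkx⟩ := h
  refine ⟨g * k * g⁻¹, M.mul_mem (M.mul_mem hg hk) (M.inv_mem hg), fun x => ?_⟩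
  have key : ∀ w, f x ((g : Matrix ι ι F) *ᵥ w) = f (((g⁻¹ : GL ι F) : Matrix ι ι F) *ᵥ x) w := fun w => by
    conv_lhs => rw [← mulVec_inv_mulVec g x]
    rw [mem_isoGrp.1 hgi]
  rw [mul_mulVec, mul_mulVec, hkx, mulVec_add, mulVec_add, mulVec_smul, mulVec_smul, mulVec_inv_mulVec, key, key]

theorem El.shift {s : F} (hc : σ c = -c) (h : El σ f M p (q + s • p) a b c) :
    El σ f M p q (a - σ b * σ s + s * b + c * (s * σ s)) (b + c * σ s) c := by
  obtain ⟨k, hk, hkx⟩ := h
  refine ⟨k, hk, fun x => ?_⟩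
  rw [hkx]
  simp only [u_add_right hf, u_smul_right hf, map_add, map_mul, u_inv hf, hc]
  match_scalars <;> ring

theorem El.smul {r s : F} (h : El σ f M (r • p) (s • q) a b c) :
    El σ f M p q (a * (r * σ r)) (b * (σ r * s)) (c * (s * σ s)) := by
  obtain ⟨k, hk, hkx⟩ := h
  refine ⟨k, hk, fun x => ?_⟩
  rw [hkx]
  simp only [u_smul_right hf, map_mul, u_inv hf]
  match_scalars <;> ring

theorem El.to_ut (hpp : f p p = 0) (h : El σ f M p q a 0 0) : ut hf p a ∈ M := by
  obtain ⟨k, hk, hkx⟩ := h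
  have : k = ut hf p a := gl_ext fun x => by rw [hkx, ut_mulVec hf hpp, map_zero]; module
  exact this ▸ hk

theorem El.to_ut' (hqq : f q q = 0) (h : El σ f M p q 0 0 c) : ut hf q c ∈ M := by
  obtain ⟨k, hk, hkx⟩ := h
  have : k = ut hf q c := gl_ext fun x => by rw [hkx, ut_mulVec hf hqq, map_zero]; module
  exact this ▸ hk

theorem El.to_ue (hpp : f p p = 0) (hqq : f q q = 0) (hpq : f p q = 0) (h : El σ f M p q 0 b 0) :
    UE hf M p (b • q) 0 := by
  have hok : EichOK hf p (b • q) 0 :=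
    ⟨hpp, by rw [u_smul_left hf, u_symm_zero hf hpq, mul_zero],
      by rw [u_smul_left hf, u_smul_right hf, hqq, map_zero]; simp⟩
  refine ⟨hok, ?_⟩
  obtain ⟨k, hk, hkx⟩ := h
  have : k = ue hf p (b • q) 0 := gl_ext fun x => by rw [hkx, ue_mulVec hf hok, u_smul_right hf]; module
  exact this ▸ hk

end El

variable (C : Cj σ f cj) (hM : Ov f cj M) {θ m : F} (K : Fld σ θ m)
include C hM K

/-- The family of elements fixing the moved plane. -/
theorem exists_family {g : GL ι F} (hg : g ∈ M) {u v p q : ι → F} (hu : cj u = u) (hv : cj v = v) (huu : f u u = 0)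
    (hvv : f v v = 0) (hvu : f v u = 0) {a b e h : F} (hgu : (g : Matrix ι ι F) *ᵥ u = a • p + b • q)
    (hgv : (g : Matrix ι ι F) *ᵥ v = e • p + h • q) (hdet : a * h - b * e ≠ 0) :
    ∃ α β ξ : F, σ α = -α ∧ σ ξ = -ξ ∧ ¬(α = 0 ∧ β = 0 ∧ ξ = 0) ∧
      ∀ c, σ c = c → El σ f M p q (c * α) (c * β) (c * ξ) := by
  have hf := C.herm
  refine ⟨σ a * e - σ e * a, σ a * h - σ e * b, σ b * h - σ h * b, ?_, ?_, ?_, fun c hc => ?_⟩
  · rw [map_sub, map_mul, map_mul, u_inv hf, u_inv hf]; ring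
  · rw [map_sub, map_mul, map_mul, u_inv hf, u_inv hf]; ring
  · rintro ⟨h1, h2, h3⟩
    have k1 : σ a * (a * h - b * e) = 0 := by linear_combination a * h2 - b * h1
    have k2 : σ b * (a * h - b * e) = 0 := by
      have h2' := congrArg σ h2
      simp only [map_sub, map_mul, u_inv hf, map_zero] at h2'
      linear_combination a * h3 + b * h2'
    have ha : a = 0 := (map_eq_zero_iff σ σ.injective).1 ((mul_eq_zero.1 k1).resolve_right hdet)
    have hb : b = 0 := (map_eq_zero_iff σ σ.injective).1 ((mul_eq_zero.1 k2).resolve_right hdet)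
    exact hdet (by rw [ha, hb]; ring)
  · have h1 := (ue_rat C hM hu (d := c • v) (by rw [C.smul, hv, hc]) huu
      (by rw [u_smul_left hf, hvu, mul_zero])).conj hg (hM.le hg)
    have ht : -f (c • v) (c • v) / 2 = 0 := by rw [u_smul_left hf, u_smul_right hf, hvv]; simp
    refine ⟨_, h1.2, fun x => ?_⟩
    rw [ue_mulVec hf h1.1, ht, mulVec_smul, hgu, hgv]
    simp only [u_add_right hf, u_smul_right hf, map_add, map_mul, map_sub, u_inv hf, hc]
    match_scalars <;> ring

/-- The moved plane contains a rational point. -/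
theorem plus_rat {p q : ι → F} (hp : cj p = p) (hp0 : p ≠ 0) (hpp : f p p = 0) (hqq : f q q = 0) (hpq : f p q = 0)
    (hq : ∀ s : F, q ≠ s • p) (hG : f q (cj q) ≠ 0) {α β ξ : F} (hα : σ α = -α) (hξ : σ ξ = -ξ)
    (hne : ¬(α = 0 ∧ β = 0 ∧ ξ = 0)) (hA : El σ f M p q α β ξ) : Good C.herm cj M := by
  have hf := C.herm
  have hqp : f q p = 0 := u_symm_zero hf hpq
  -- conjugation by the rational elements at p
  have hconj : ∀ d, cj d = d → f d p = 0 →
      El σ f M p q (α + σ β * σ (f q d) - f q d * β + ξ * (f q d * σ (f q d))) (β - ξ * σ (f q d)) ξ := by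
    intro d hd hdp
    have hk := ue_rat C hM hp hd hpp hdp
    have e1 : (ue hf p d (-f d d / 2) : Matrix ι ι F) *ᵥ p = p := by
      rw [ue_mulVec hf hk.1, hpp, u_symm_zero hf hdp]; module
    have e2 : (ue hf p d (-f d d / 2) : Matrix ι ι F) *ᵥ q = q + (-f q d) • p := by
      rw [ue_mulVec hf hk.1, hqp]; module
    have h := El.conj hf hA hk.2 (hM.le hk.2)
    rw [e1, e2] at h
    refine (El.shift hf hξ h).congr ?_ ?_ rfl
    · rw [map_neg]; ring
    · rw [map_neg]; ring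
  have hd0 : ∃ d, cj d = d ∧ f d p = 0 ∧ f q d ≠ 0 := by
    by_contra hc
    push Not at hc
    obtain ⟨s, hs⟩ := perp_rat C hp hp0 hc
    exact hq s hs
  by_cases hξ0 : ξ = 0
  swap
  · obtain ⟨d, hd, hdp, hφ⟩ := hd0
    set φ := f q d
    have h1 := hconj d hd hdp
    have h2 := hconj (-d) (by rw [C.neg, hd]) (by rw [u_neg_left hf, hdp, neg_zero])
    rw [show f q (-d) = -φ from u_neg_right hf q d, map_neg] at h2
    have h3 := El.sub hf hpp hqq hpq (El.add hf hpp hqq hpq h1 h2) (El.add hf hpp hqq hpq hA hA)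
    refine ⟨p, hp, hp0, hpp, 2 * (ξ * (φ * σ φ)), ?_, ?_,
      El.to_ut hf hpp (h3.congr (by ring) (by ring) (by ring))⟩
    · rw [map_mul, map_mul, map_mul, map_ofNat, u_inv hf, hξ]; ring
    · exact mul_ne_zero C.two (mul_ne_zero hξ0 (mul_ne_zero hφ ((map_ne_zero_iff σ σ.injective).2 hφ)))
  subst hξ0
  by_cases hβ : β = 0
  · subst hβ
    exact ⟨p, hp, hp0, hpp, α, hα, fun h => hne ⟨h, rfl, rfl⟩, El.to_ut hf hpp hA⟩
  by_cases hreal : ∀ d, cj d = d → f d p = 0 → σ (f (β • q) d) = f (β • q) d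
  · exfalso
    set w := β • q with hw
    obtain ⟨s, hs⟩ := perp_rat C hp hp0 (w := cj w - w) fun d hd hdp => by
      rw [u_sub_left hf, C.form_left, hd, hreal d hd hdp, sub_self]
    have hww : f w w = 0 := by rw [hw, u_smul_left hf, u_smul_right hf, hqq, mul_zero, mul_zero]
    have hwp : f w p = 0 := by rw [hw, u_smul_left hf, hqp, mul_zero]
    have h0 : f w (cj w) = 0 := by
      rw [show cj w = w + s • p by rw [← hs]; abel, u_add_right hf, hww, u_smul_right hf, hwp, mul_zero, add_zero]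
    rw [hw, C.smul, u_smul_left hf, u_smul_right hf, u_inv hf] at h0
    exact mul_ne_zero hβ (mul_ne_zero hβ hG) h0
  push Not at hreal
  obtain ⟨d, hd, hdp, hne'⟩ := hreal
  rw [u_smul_left hf, map_mul] at hne'
  have h1 := El.sub hf hpp hqq hpq (hconj d hd hdp) hA
  refine ⟨p, hp, hp0, hpp, σ β * σ (f q d) - β * f q d, ?_, sub_ne_zero.2 hne',
    El.to_ut hf hpp (h1.congr (by ring) (by ring) (by ring))⟩
  rw [map_sub, map_mul, map_mul, u_inv hf, u_inv hf]; ring

/-- Rescaling two hyperbolic pairs. -/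
theorem exists_torus {p q : ι → F} (hpp : f p p = 0) (hqq : f q q = 0) (hpq : f p q = 0) (hGp : f p (cj p) = 0)
    (hG : f q (cj p) = 1) (hGq : f q (cj q) = 0) {l : F} (hl : l ≠ 0) :
    ∃ k ∈ M, (k : Matrix ι ι F) *ᵥ p = l • p ∧ (k : Matrix ι ι F) *ᵥ q = l⁻¹ • q := by
  have hf := C.herm
  set p' := cj p with hp'
  set q' := cj q with hq'
  have hσl : σ l ≠ 0 := (map_ne_zero_iff σ σ.injective).2 hl
  have hqp : f q p = 0 := u_symm_zero hf hpq
  have hp'q : f p' q = 1 := by rw [← u_conj hf, hG, map_one]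
  have hpq' : f p q' = 1 := by rw [hq', C.swap, ← hp', hG]
  have hq'p : f q' p = 1 := by rw [← u_conj hf, hpq', map_one]
  have hp'p : f p' p = 0 := u_symm_zero hf hGp
  have hq'q : f q' q = 0 := u_symm_zero hf hGq
  have hp'p' : f p' p' = 0 := by rw [hp', C.form, hpp, map_zero]
  have hq'q' : f q' q' = 0 := by rw [hq', C.form, hqq, map_zero]
  have hp'q' : f p' q' = 0 := by rw [hp', hq', C.form, hpq, map_zero]
  have hq'p' : f q' p' = 0 := u_symm_zero hf hp'q'
  have hdv : ∀ a x : ι → F, dv f a ⬝ᵥ x = f x a := fun a x => u_dot hf a x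
  let Q : F → Matrix ι ι F := fun a =>
    (1 + vecMulVec p ((a - 1) • dv f q') + vecMulVec q' (((σ a)⁻¹ - 1) • dv f p)) *
      (1 + vecMulVec p' ((σ a - 1) • dv f q) + vecMulVec q ((a⁻¹ - 1) • dv f p'))
  have hQv : ∀ a x, Q a *ᵥ x = x + ((a - 1) * f x q') • p + (((σ a)⁻¹ - 1) * f x p) • q' +
      ((σ a - 1) * f x q) • p' + ((a⁻¹ - 1) * f x p') • q := fun a x => by
    simp only [Q, ← mulVec_mulVec, add_mulVec, one_mulVec, vecMulVec_mulVec, op_smul_eq_smul, smul_dotProduct,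
      hdv, smul_eq_mul, u_add_left hf, u_smul_left hf, hp'q', hqp, hGq, hGp, hp'p, hqq]
    match_scalars <;> ring
  have hQQ : ∀ a : F, a ≠ 0 → Q a * Q a⁻¹ = 1 := fun a ha => by
    have hσa : σ a ≠ 0 := (map_ne_zero_iff σ σ.injective).2 ha
    refine mat_ext fun x => ?_
    simp only [← mulVec_mulVec, hQv, one_mulVec, u_add_left hf, u_smul_left hf, hpp, hqq, hpq, hqp, hGp, hG, hGq,
      hp'q, hpq', hq'p, hp'p, hq'q, hp'p', hq'q', hp'q', hq'p', map_inv₀, inv_inv]
    match_scalars <;> field_simp <;> ring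
  let k : GL ι F := ⟨Q l, Q l⁻¹, hQQ l hl, by simpa using hQQ l⁻¹ (inv_ne_zero hl)⟩
  refine ⟨k, hM.mem k ?_ ?_ fun x => ?_, ?_, ?_⟩
  · rw [mem_isoGrp]
    intro x y
    show f (Q l *ᵥ x) (Q l *ᵥ y) = f x y
    rw [hQv, hQv]
    simp only [u_add_left hf, u_add_right hf, u_smul_left hf, u_smul_right hf, hpp, hqq, hpq, hqp, hGp, hG, hGq,
      hp'q, hpq', hq'p, hp'p, hq'q, hp'p', hq'q', hp'q', hq'p', map_mul, map_sub, map_inv₀, map_one, u_inv hf,
      u_conj hf]
    field_simp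
    ring
  · rw [mem_specialLinear_iff]
    show (Q l).det = 1
    simp only [Q]
    rw [Matrix.det_mul, det_rank_two, det_rank_two, smul_dotProduct, smul_dotProduct, smul_dotProduct,
      smul_dotProduct, smul_dotProduct, smul_dotProduct, smul_dotProduct, smul_dotProduct]
    simp only [hdv, smul_eq_mul, hpp, hq'q', hpq', hq'p, hp'p', hqq, hp'q, hG]
    field_simp
    ring
  · show cj (Q l *ᵥ x) = Q l *ᵥ cj x
    rw [hQv, hQv]
    simp only [C.add, C.smul, hp', hq', C.invol, C.form, C.form_left, map_mul, map_sub, map_inv₀, map_one,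
      u_inv hf]
    abel
  · show Q l *ᵥ p = l • p
    rw [hQv, hpp, hpq, hpq', hGp]; module
  · show Q l *ᵥ q = l⁻¹ • q
    rw [hQv, hqp, hqq, hG, hGq]; module

/-- The moved plane has no rational point on the chosen null line. -/
theorem plus_irr {p q : ι → F} (hp0 : p ≠ 0) (hpp : f p p = 0) (hqq : f q q = 0) (hpq : f p q = 0)
    (hGp : f p (cj p) = 0) (hG : f q (cj p) = 1) (hGq : f q (cj q) = 0) {α β ξ : F} (hα : σ α = -α)
    (hξ : σ ξ = -ξ) (hne : ¬(α = 0 ∧ β = 0 ∧ ξ = 0))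
    (hA : ∀ c, σ c = c → El σ f M p q (c * α) (c * β) (c * ξ)) : Good C.herm cj M := by
  have hf := C.herm
  have hθ := K.skew
  have hθ0 := K.skew0
  have hq0 : q ≠ 0 := fun e => by rw [e, u_zero_left hf] at hG; exact zero_ne_one hG
  have htor : ∀ {a b c : F} (l : F), l ≠ 0 → El σ f M p q a b c →
      El σ f M p q (a * (l * σ l)) (b * (σ l * l⁻¹)) (c * (l⁻¹ * σ l⁻¹)) := fun l hl h => by
    obtain ⟨k, hk, e1, e2⟩ := exists_torus C hM K hpp hqq hpq hGp hG hGq hl
    have h' := El.conj hf h hk (hM.le hk)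
    rw [e1, e2] at h'
    exact El.smul hf h'
  have h1θ : (1 : F) + θ ≠ 0 := fun e => by
    have := congrArg σ e
    rw [map_add, map_one, hθ, map_zero] at this
    exact C.two (by linear_combination e + this)
  have h1θ' : (1 : F) - θ ≠ 0 := fun e => h1θ (by
    have := congrArg σ e
    rw [map_sub, map_one, hθ, map_zero, sub_neg_eq_add] at this
    exact this)
  set ε := σ (1 + θ) * (1 + θ)⁻¹ with hε
  have hσε : σ (1 + θ) = 1 - θ := by rw [map_add, map_one, hθ]; ring
  have hε1 : σ ε * ε = 1 := by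
    rw [hε, map_mul, map_inv₀, u_inv hf, hσε]
    field_simp
  have hε' : ε * ε ≠ 1 := fun e => by
    rw [hε, hσε] at e
    field_simp at e
    exact mul_ne_zero C.two (mul_ne_zero C.two hθ0) (by linear_combination -e)
  have hε0 : ε ≠ 0 := fun e => by rw [e, mul_zero] at hε1; exact zero_ne_one hε1
  -- the off-diagonal parameters
  have hoff : β ≠ 0 → ∀ μ : F, El σ f M p q 0 μ 0 := by
    intro hβ
    set b₀ := β * (σ ε * ε⁻¹) - β with hb₀
    have hb₀0 : b₀ ≠ 0 := fun e => by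
      have : σ ε * ε⁻¹ = 1 := mul_left_cancel₀ hβ (by linear_combination e)
      have h' : σ ε = ε := by rwa [← div_eq_mul_inv, div_eq_one_iff_eq hε0] at this
      exact hε' (by rw [h'] at hε1; exact hε1)
    have hc : ∀ c, σ c = c → El σ f M p q 0 (c * b₀) 0 := fun c hc =>
      (El.sub hf hpp hqq hpq (htor ε hε0 (hA c hc)) (hA c hc)).congr
        (by rw [mul_comm ε (σ ε), hε1]; ring) (by rw [hb₀]; ring)
        (by rw [map_inv₀, ← mul_inv, mul_comm ε (σ ε), hε1]; ring)
    intro μ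
    set ν := μ / b₀ with hν
    have h2 : ε - σ ε ≠ 0 := fun e => hε' (by
      conv_rhs => rw [← hε1]
      rw [← sub_eq_zero.1 e])
    set c₂ := (ν - σ ν) / (ε - σ ε) with hc₂
    have hc₂r : σ c₂ = c₂ := by
      rw [hc₂, map_div₀, map_sub, map_sub, u_inv hf, u_inv hf, ← neg_div_neg_eq, neg_sub, neg_sub]
    set c₁ := ν - c₂ * ε with hc₁
    have hc₁r : σ c₁ = c₁ := by
      have : c₂ * (ε - σ ε) = ν - σ ν := by rw [hc₂, div_mul_cancel₀ _ h2]
      rw [hc₁, map_sub, map_mul, hc₂r]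
      linear_combination this
    refine (El.add hf hpp hqq hpq (hc c₁ hc₁r) (htor (1 + θ) h1θ (hc c₂ hc₂r))).congr (by ring) ?_ (by ring)
    rw [← hε, show μ = ν * b₀ by rw [hν, div_mul_cancel₀ _ hb₀0], hc₁]
    ring
  have hdiag : ∀ c, σ c = c → El σ f M p q (c * α) 0 (c * ξ) := fun c hc => by
    by_cases hβ : β = 0
    · exact (hA c hc).congr rfl (by rw [hβ, mul_zero]) rfl
    · exact (El.sub hf hpp hqq hpq (hA c hc) (hoff hβ (c * β))).congr (by ring) (by ring) (by ring)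
  obtain ⟨l, hl⟩ := K.norm m K.real
  have hl0 : l ≠ 0 := fun e => K.real0 (by rw [← hl, e, zero_mul])
  have hlinv : l⁻¹ * σ l⁻¹ = m⁻¹ := by rw [map_inv₀, ← mul_inv, hl]
  have hm1 : m - m⁻¹ ≠ 0 := fun e => K.real1 (by
    rw [sub_eq_zero] at e
    nth_rewrite 2 [e]
    exact mul_inv_cancel₀ K.real0)
  have hdl : El σ f M p q (1 * α * m) 0 (1 * ξ * m⁻¹) :=
    (htor l hl0 (hdiag 1 (map_one σ))).congr (by rw [hl]) (by ring) (by rw [hlinv])
  by_cases hα0 : α = 0
  swap
  · have h := El.sub hf hpp hqq hpq hdl (hdiag m⁻¹ (by rw [map_inv₀, K.real]))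
    exact good_of_ut C hM hθ hθ0 hp0 hpp hGp (l := (m - m⁻¹) * α)
      (by rw [map_mul, map_sub, map_inv₀, K.real, hα]; ring) (mul_ne_zero hm1 hα0)
      (El.to_ut hf hpp (h.congr (by ring) (by ring) (by ring)))
  by_cases hξ0 : ξ = 0
  swap
  · have h := El.sub hf hpp hqq hpq hdl (hdiag m K.real)
    exact good_of_ut C hM hθ hθ0 hq0 hqq hGq (l := (m⁻¹ - m) * ξ)
      (by rw [map_mul, map_sub, map_inv₀, K.real, hξ]; ring)
      (mul_ne_zero (fun e => hm1 (by linear_combination -e)) hξ0)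
      (El.to_ut' hf hqq (h.congr (by ring) (by ring) (by ring)))
  have hβ : β ≠ 0 := fun e => hne ⟨hα0, e, hξ0⟩
  -- a rational element moving the second vector towards the conjugate of the first
  set p' := cj p with hp'
  have hp'p' : f p' p' = 0 := by rw [hp', C.form, hpp, map_zero]
  have hp'p : f p' p = 0 := u_symm_zero hf hGp
  have hsθ : σ (-θ) = -(-θ) := by rw [map_neg, hθ]
  have hBx : ∀ y, ((ut hf p θ * ut hf p' (-θ) : GL ι F) : Matrix ι ι F) *ᵥ y =
      y + (θ * f y p) • p + (-θ * f y p') • p' := fun y => by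
    simp only [mul_mulVec, ut_mulVec hf hpp, ut_mulVec hf hp'p', u_add_left hf, u_smul_left hf, hp'p]
    module
  have hB : ut hf p θ * ut hf p' (-θ) ∈ M := by
    refine hM.mem _ (Subgroup.mul_mem _ (ut_mem_iso hf hpp hθ) (ut_mem_iso hf hp'p' hsθ))
      (Subgroup.mul_mem _ (ut_mem_sl hf _ _) (ut_mem_sl hf _ _)) fun x => ?_
    have a1 : f (cj x) p = σ (f x p') := C.form_left x p
    have a2 : f (cj x) p' = σ (f x p) := C.form x p
    have a3 : cj p' = p := C.invol p
    have a4 : cj p = p' := rfl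
    rw [hBx, hBx, C.add, C.add, C.smul, C.smul, map_mul, map_mul, map_neg, hθ, a1, a2, a3, a4]
    abel
  have e1 : ((ut hf p θ * ut hf p' (-θ) : GL ι F) : Matrix ι ι F) *ᵥ p = p := by
    rw [hBx, hpp, hGp]
    module
  have e2 : ((ut hf p θ * ut hf p' (-θ) : GL ι F) : Matrix ι ι F) *ᵥ q = q + (-θ) • p' := by
    rw [hBx, u_symm_zero hf hpq, hG]
    module
  have hqp : f q p = 0 := u_symm_zero hf hpq
  have hν : UE hf M p p' (-θ⁻¹) := by
    have h := (El.to_ue hf hpp hqq hpq (hoff hβ (-θ)⁻¹)).conj hB (hM.le hB)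
    rw [e1, mulVec_smul, e2] at h
    have h' := El.to_ue hf hpp hqq hpq (hoff hβ (-(-θ)⁻¹))
    refine (h.mul h').congr rfl ?_ ?_
    · rw [smul_add, smul_smul, inv_mul_cancel₀ (neg_ne_zero.2 hθ0)]; module
    · simp only [u_smul_left hf, u_add_right hf, u_smul_right hf, hqq, hG, mul_one, map_neg, map_inv₀, hθ]
      field_simp
      ring
  have hq' := El.to_ue hf hpp hqq hpq (hoff hβ θ)
  have h1 := hν.mul hq'
  have h2 := (hq'.mul hν).inv
  have h3 := (h1.mul h2).congr (d' := 0) rfl (by abel) rfl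
  refine good_of_ut C hM hθ hθ0 hp0 hpp hGp (l := -(2 * θ)) (by rw [map_neg, map_mul, map_ofNat, hθ]; ring)
    (neg_ne_zero.2 (mul_ne_zero C.two hθ0)) ?_
  have hp'q : f p' q = 1 := by rw [← u_conj hf, hG, map_one]
  have h4 := h3.congr (t' := -(2 * θ)) rfl rfl (by
    simp only [u_smul_left hf, u_smul_right hf, u_add_left hf, u_add_right hf, u_neg_left hf, hqq, hp'p', hG,
      hp'q, map_add, map_sub, map_mul, map_neg, map_zero, map_inv₀, hθ, u_inv hf, map_one]
    ring)
  have he : ue hf p 0 (-(2 * θ)) = ut hf p (-(2 * θ)) := by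
    refine gl_ext fun x => ?_
    rw [ue_mulVec hf h4.1, ut_mulVec hf hpp, u_zero_right hf]
    module
  exact he ▸ h4.2

/-- Two planes of different types carry no totally singular rational plane. -/
theorem hyp_contra (hι : Fintype.card ι = 4) {z₁ z₂ : ι → F} (h11 : f z₁ z₁ = 0) (h22 : f z₂ z₂ = 0)
    (h12 : f z₁ z₂ = 0) (hG12 : f z₁ (cj z₂) = 0) (hν₁ : f z₁ (cj z₁) ≠ 0) (hν₂ : f z₂ (cj z₂) ≠ 0)
    (hs₁ : IsSquare (θ * f z₁ (cj z₁))) (hs₂ : ¬IsSquare (θ * f z₂ (cj z₂))) {a b : ι → F} (ha : cj a = a)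
    (hb : cj b = b) (haa : f a a = 0) (hbb : f b b = 0) (hab : f a b = 0)
    (hind : ∀ r s : F, r • a + s • b = 0 → r = 0 ∧ s = 0) : False := by
  have hf := C.herm
  have hθ := K.skew
  have hθ0 := K.skew0
  set ν₁ := f z₁ (cj z₁) with hν₁d
  set ν₂ := f z₂ (cj z₂) with hν₂d
  have hσν₁ : σ ν₁ ≠ 0 := (map_ne_zero_iff σ σ.injective).2 hν₁
  have hσν₂ : σ ν₂ ≠ 0 := (map_ne_zero_iff σ σ.injective).2 hν₂
  have h21 : f z₂ z₁ = 0 := u_symm_zero hf h12
  have hG21 : f z₂ (cj z₁) = 0 := by rw [C.swap, hG12]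
  obtain ⟨s, hs⟩ := hs₁
  have hs0 : s ≠ 0 := fun e => mul_ne_zero hθ0 hν₁ (by rw [hs, e, zero_mul])
  set ζ := θ / s with hζ
  have hζ0 : ζ ≠ 0 := div_ne_zero hθ0 hs0
  have hζν : ζ * ζ * ν₁ = θ := by rw [hζ, div_mul_div_comm, ← hs]; field_simp
  have hbasis : ∀ w, f w z₁ = 0 → f w (cj z₁) = 0 → f w z₂ = 0 → f w (cj z₂) = 0 → w = 0 := by
    refine fun w a1 a2 a3 a4 => eq_zero_of_four hf hι (fun r s t e h => ?_) a1 a2 a3 a4
    have e1 := congrArg (fun v => f v (cj z₁)) h
    have e2 := congrArg (fun v => f v z₁) h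
    have e3 := congrArg (fun v => f v (cj z₂)) h
    have e4 := congrArg (fun v => f v z₂) h
    simp only [u_add_left hf, u_smul_left hf, u_zero_left hf, C.form, h11, h22, h12, h21, hG12, hG21, C.form_left,
      map_zero, ← hν₁d, ← hν₂d, mul_zero, add_zero, zero_add, mul_eq_zero, hν₁, hν₂, hσν₁, hσν₂, or_false] at e1 e2 e3 e4
    exact ⟨e1, e2, e3, e4⟩
  set i := ζ • z₁ + σ ζ • cj z₁ with hi
  have key : ∀ w, cj w = w → f w w = 0 → f w i = 0 → ∃ r : F, w = r • i := by
    intro w hw hww hwi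
    have e1 : f w z₁ = σ (f w (cj z₁)) := by conv_lhs => rw [← hw, C.form_left]
    have e2 : f w z₂ = σ (f w (cj z₂)) := by conv_lhs => rw [← hw, C.form_left]
    set α := f w (cj z₁) / ν₁ with hα
    set γ := f w (cj z₂) / ν₂ with hγ
    have hA : f w (cj z₁) = α * ν₁ := by rw [hα, div_mul_cancel₀ _ hν₁]
    have hB : f w (cj z₂) = γ * ν₂ := by rw [hγ, div_mul_cancel₀ _ hν₂]
    have hwe : w = α • z₁ + σ α • cj z₁ + γ • z₂ + σ γ • cj z₂ := by
      refine sub_eq_zero.1 (hbasis _ ?_ ?_ ?_ ?_) <;>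
        simp only [u_sub_left hf, u_add_left hf, u_smul_left hf, C.form, C.form_left, h11, h22, h12, h21, hG12, hG21,
          e1, e2, hA, hB, map_zero, map_mul, ← hν₁d, ← hν₂d] <;> ring
    simp only [hi, u_add_right hf, u_smul_right hf, u_inv hf, e1, hA, map_mul] at hwi
    set r := α / ζ with hr
    have hαr : α = r * ζ := by rw [hr, div_mul_cancel₀ _ hζ0]
    have hζν' := congrArg σ hζν
    simp only [map_mul, hθ] at hζν'
    have hrr : σ r = r := by
      rw [hαr, map_mul] at hwi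
      refine mul_left_cancel₀ hθ0 ?_
      linear_combination (-1) * hwi + r * hζν + σ r * hζν'
    have hγ0 : γ = 0 := by
      by_contra hγ0
      rw [hwe] at hww
      simp only [u_add_left hf, u_add_right hf, u_smul_left hf, u_smul_right hf, C.form, C.form_left, h11, h22, h12,
        h21, hG12, hG21, map_zero, map_mul, u_inv hf, ← hν₁d, ← hν₂d] at hww
      have hre : σ (γ * γ * ν₂) = -(γ * γ * ν₂) := by
        rw [hαr] at hww
        simp only [map_mul, hrr] at hww ⊢
        linear_combination hww - r * r * hζν - r * r * hζν'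
      obtain ⟨s, hs⟩ := K.sq (γ * γ * ν₂ / θ) (by rw [map_div₀, hre, hθ, neg_div_neg_eq])
      rw [div_eq_iff hθ0] at hs
      refine hs₂ ⟨θ * s / γ, ?_⟩
      field_simp
      linear_combination hs
    refine ⟨r, ?_⟩
    rw [hwe, hγ0, map_zero, zero_smul, zero_smul, add_zero, add_zero, hi, smul_add, smul_smul, smul_smul, hαr,
      map_mul, hrr]
  have hi0 : cj i = i := by rw [hi, C.add, C.smul, C.smul, C.invol, u_inv hf, add_comm]
  set w := f b i • a - f a i • b with hw
  have hwc : cj w = w := by rw [hw, C.sub, C.smul, C.smul, ha, hb, C.rat ha hi0, C.rat hb hi0]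
  have hba : f b a = 0 := u_symm_zero hf hab
  have hww : f w w = 0 := by
    simp [hw, u_sub_left hf, u_sub_right hf, u_smul_left hf, u_smul_right hf, haa, hbb, hab, hba]
  by_cases h0 : f a i = 0 ∧ f b i = 0
  · obtain ⟨r, hr⟩ := key a ha haa h0.1
    obtain ⟨s, hs⟩ := key b hb hbb h0.2
    have hr0 : r ≠ 0 := fun e =>
      one_ne_zero (hind 1 0 (by rw [hr, e, zero_smul, smul_zero, zero_smul, add_zero])).1
    exact hr0 (neg_eq_zero.1 (hind s (-r) (by rw [hr, hs]; module)).2)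
  obtain ⟨r, hr⟩ := key w hwc hww (by rw [hw, u_sub_left hf, u_smul_left hf, u_smul_left hf]; ring)
  have hr0 : r ≠ 0 := fun e => h0 (by
    rw [e, zero_smul, hw, sub_eq_add_neg, ← neg_smul] at hr
    have := hind _ _ hr
    exact ⟨neg_eq_zero.1 this.2, this.1⟩)
  have hw1 : f w a = 0 := by simp [hw, u_sub_left hf, u_smul_left hf, haa, hba]
  have hw2 : f w b = 0 := by simp [hw, u_sub_left hf, u_smul_left hf, hbb, hab]
  rw [hr, u_smul_left hf] at hw1 hw2
  exact h0 ⟨u_symm_zero hf ((mul_eq_zero.1 hw1).resolve_left hr0),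
    u_symm_zero hf ((mul_eq_zero.1 hw2).resolve_left hr0)⟩

/-- A moved plane which is not stable yields a rational transvection. -/
theorem plus_plane (hι : Fintype.card ι = 4) {a₀ b₀ : ι → F} (ha₀ : cj a₀ = a₀) (hb₀ : cj b₀ = b₀)
    (haa : f a₀ a₀ = 0) (hbb : f b₀ b₀ = 0) (hab : f a₀ b₀ = 0)
    (hind : ∀ r s : F, r • a₀ + s • b₀ = 0 → r = 0 ∧ s = 0) {g : GL ι F} (hg : g ∈ M) {u v : ι → F} (hu : cj u = u)
    (hv : cj v = v) (huu : f u u = 0) (hvv : f v v = 0) (hvu : f v u = 0)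
    (huv : ∀ r s : F, r • u + s • v = 0 → r = 0 ∧ s = 0)
    (hG : ¬(f ((g : Matrix ι ι F) *ᵥ u) (cj ((g : Matrix ι ι F) *ᵥ u)) = 0 ∧
      f ((g : Matrix ι ι F) *ᵥ u) (cj ((g : Matrix ι ι F) *ᵥ v)) = 0 ∧
      f ((g : Matrix ι ι F) *ᵥ v) (cj ((g : Matrix ι ι F) *ᵥ v)) = 0)) : Good C.herm cj M := by
  have hf := C.herm
  have hθ := K.skew
  have hθ0 := K.skew0
  have hgi := mem_isoGrp.1 (hM.le hg)
  set y₁ := (g : Matrix ι ι F) *ᵥ u with hy₁
  set y₂ := (g : Matrix ι ι F) *ᵥ v with hy₂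
  have h11 : f y₁ y₁ = 0 := by rw [hy₁, hgi, huu]
  have h22 : f y₂ y₂ = 0 := by rw [hy₂, hgi, hvv]
  have h21 : f y₂ y₁ = 0 := by rw [hy₂, hy₁, hgi, hvu]
  have h12 : f y₁ y₂ = 0 := u_symm_zero hf h21
  have hyind : ∀ r s : F, r • y₁ + s • y₂ = 0 → r = 0 ∧ s = 0 := fun r s h => huv r s (by
    have := congrArg (((g⁻¹ : GL ι F) : Matrix ι ι F) *ᵥ ·) h
    simpa [mulVec_add, mulVec_smul, hy₁, hy₂, inv_mulVec_mulVec, mulVec_zero] using this)
  -- a null point of the symmetric form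
  obtain ⟨a, b, e, h, p, q, hp0, hpp, hqq, hpq, hGp, e1, e2⟩ : ∃ (a b e h : F) (p q : ι → F), p ≠ 0 ∧ f p p = 0 ∧
      f q q = 0 ∧ f p q = 0 ∧ f p (cj p) = 0 ∧ y₁ = a • p + b • q ∧ y₂ = e • p + h • q := by
    by_cases hA : f y₁ (cj y₁) = 0
    · refine ⟨1, 0, 0, 1, y₁, y₂, fun e => ?_, h11, h22, h12, hA, by simp, by simp⟩
      exact one_ne_zero (hyind 1 0 (by rw [e, smul_zero, zero_smul, add_zero])).1
    set A := f y₁ (cj y₁) with hAd
    set t := f y₂ (cj y₁) / A with ht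
    set z := y₂ - t • y₁ with hz
    have hzz : f z z = 0 := by
      simp [hz, u_sub_left hf, u_sub_right hf, u_smul_left hf, u_smul_right hf, h11, h22, h12, h21]
    have hyz : f y₁ z = 0 := by
      simp [hz, u_sub_right hf, u_smul_right hf, h11, h12]
    have hzy : f z (cj y₁) = 0 := by
      rw [hz, u_sub_left hf, u_smul_left hf, ht, div_mul_cancel₀ _ hA, sub_self]
    have hyzc : f y₁ (cj z) = 0 := by rw [C.swap, hzy]
    have hz0 : z ≠ 0 := fun e => one_ne_zero (hyind (-t) 1 (by rw [← e, hz]; module)).2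
    set B := f z (cj z) with hBd
    by_cases hB : B = 0
    · exact ⟨0, 1, 1, t, z, y₁, hz0, hzz, h11, u_symm_zero hf hyz, hB, by module, by rw [hz]; module⟩
    by_cases hsq : IsSquare (-B / A)
    · obtain ⟨r, hr⟩ := hsq
      refine ⟨0, 1, 1, t - r, r • y₁ + z, y₁, fun e => ?_, ?_, h11, ?_, ?_, by module, by rw [hz]; module⟩
      · exact one_ne_zero (hyind (r - t) 1 (by rw [← e, hz]; module)).2
      · simp [u_add_left hf, u_add_right hf, u_smul_left hf, u_smul_right hf, h11, hzz, hyz, u_symm_zero hf hyz]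
      · simp [u_add_left hf, u_smul_left hf, h11, u_symm_zero hf hyz]
      · simp only [C.add, C.smul, u_add_left hf, u_add_right hf, u_smul_left hf, u_smul_right hf, u_inv hf, hzy,
          hyzc, ← hAd, ← hBd]
        field_simp at hr
        linear_combination -hr
    exfalso
    by_cases h1 : IsSquare (θ * A)
    · refine hyp_contra C hM K hι h11 hzz hyz hyzc hA hB h1 (fun h2 => hsq ?_) ha₀ hb₀ haa hbb hab hind
      obtain ⟨r, hr⟩ := h1
      obtain ⟨r', hr'⟩ := h2
      obtain ⟨i, hi⟩ := K.sq (-1) (by rw [map_neg, map_one])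
      refine ⟨i * r' / r, ?_⟩
      have hr0 : r ≠ 0 := fun e => mul_ne_zero hθ0 hA (by rw [hr, e, zero_mul])
      rw [← hBd] at hr'
      field_simp
      linear_combination B * hr - A * hr' + A * (r' * r') * hi
    · by_cases h2 : IsSquare (θ * B)
      · exact hyp_contra C hM K hι hzz h11 (u_symm_zero hf hyz) hzy hB hA h2 h1 ha₀ hb₀ haa hbb hab hind
      · obtain ⟨r, hr⟩ := K.mul _ _ h1 h2
        obtain ⟨i, hi⟩ := K.sq (-1) (by rw [map_neg, map_one])
        refine hsq ⟨i * r / (θ * A), ?_⟩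
        field_simp
        linear_combination (-1) * hr + r * r * hi
  have hdet : a * h - b * e ≠ 0 := fun h0 => by
    have k1 : h • y₁ + (-b) • y₂ = 0 := by rw [e1, e2]; linear_combination (norm := module) h0 • p
    have k2 : e • y₁ + (-a) • y₂ = 0 := by rw [e1, e2]; linear_combination (norm := module) (-h0) • q
    obtain ⟨hh, hb⟩ := hyind _ _ k1
    obtain ⟨he, ha⟩ := hyind _ _ k2
    rw [neg_eq_zero] at ha hb
    exact one_ne_zero (hyind 1 0 (by rw [e1, ha, hb, one_smul, zero_smul, zero_smul, zero_smul, add_zero,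
      add_zero])).1
  have hGpq : ¬(f q (cj p) = 0 ∧ f q (cj q) = 0) := fun ⟨g1, g2⟩ => hG (by
    have g1' : f p (cj q) = 0 := by rw [C.swap, g1]
    simp only [e1, e2, C.add, C.smul, u_add_left hf, u_add_right hf, u_smul_left hf, u_smul_right hf, hGp, g1, g1',
      g2, mul_zero, add_zero, and_self])
  by_cases hrat : ∃ μ : F, cj p = μ • p
  · obtain ⟨μ, hμ⟩ := hrat
    obtain ⟨r, hr, hrp⟩ := rat_of_prop C hθ hθ0 hμ
    have hσr : σ r ≠ 0 := (map_ne_zero_iff σ σ.injective).2 hr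
    obtain ⟨α, β, ξ, hα, hξ, hne, hfam⟩ := exists_family C hM K hg hu hv huu hvv hvu (p := r • p) (q := q)
      (a := a / r) (b := b) (e := e / r) (h := h) (by rw [← hy₁, e1, smul_smul, div_mul_cancel₀ _ hr])
      (by rw [← hy₂, e2, smul_smul, div_mul_cancel₀ _ hr]) (by
        intro h0
        refine hdet ?_
        field_simp at h0
        linear_combination h0)
    have hA := hfam 1 (map_one σ)
    simp only [one_mul] at hA
    have hqp' : f q (cj p) = 0 := by rw [hμ, u_smul_right hf, u_symm_zero hf hpq, mul_zero]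
    refine plus_rat C hM K hrp (smul_ne_zero hr hp0) (by rw [u_smul_left hf, u_smul_right hf, hpp, mul_zero, mul_zero])
      hqq (by rw [u_smul_left hf, hpq, mul_zero]) (fun s hs => ?_) (fun g2 => hGpq ⟨hqp', g2⟩) hα hξ hne hA
    refine hGpq ⟨hqp', ?_⟩
    rw [hs, C.smul, hrp, u_smul_left hf, u_smul_right hf, u_smul_left hf, u_smul_right hf, hpp]
    ring
  push Not at hrat
  have hG1 : f q (cj p) ≠ 0 := by
    intro g1
    -- the plane would be stable
    have g1' : f (cj p) q = 0 := u_symm_zero hf g1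
    have hp'p : f (cj p) p = 0 := u_symm_zero hf hGp
    refine hGpq ⟨g1, ?_⟩
    have hp'0 : cj p ≠ 0 := fun e => hp0 (by rw [← C.invol p, e, C.zero])
    -- q is a combination of p and its conjugate
    by_contra g2
    have hq' : ∀ w, f w p = 0 → f w q = 0 → f w (cj p) = 0 → f w (cj q) = 0 → w = 0 := by
      refine fun w a1 a2 a3 a4 => eq_zero_of_four hf hι (fun r s t d h => ?_) a1 a2 a3 a4
      have e4 := congrArg (fun v => f v q) h
      simp only [u_add_left hf, u_smul_left hf, u_zero_left hf, hpq, hqq, g1', (u_conj hf q (cj q)).symm,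
        mul_zero, zero_add, mul_eq_zero, (map_ne_zero_iff σ σ.injective).2 g2, or_false] at e4
      subst e4
      have e3 := congrArg (fun v => f v (cj q)) h
      simp only [u_add_left hf, u_smul_left hf, u_zero_left hf, C.swap p q, g1, C.form, hpq, map_zero,
        mul_zero, zero_add, add_zero, zero_mul, mul_eq_zero, g2, or_false] at e3
      subst e3
      simp only [zero_smul, add_zero] at h
      have ht : t = 0 := by
        by_contra ht
        refine hrat (-r / t) ?_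
        rw [eq_neg_iff_add_eq_zero.2 (show t • cj p + r • p = 0 by rw [← h]; abel) |> fun h' =>
          (show cj p = t⁻¹ • (t • cj p) by rw [smul_smul, inv_mul_cancel₀ ht, one_smul]).trans
            (congrArg (t⁻¹ • ·) h'), smul_neg, smul_smul, ← neg_smul]
        congr 1
        ring
      subst ht
      simp only [zero_smul, add_zero, smul_eq_zero, hp0, or_false] at h
      exact ⟨h, rfl, rfl, rfl⟩
    exact hp0 (hq' p hpp hpq hGp (by rw [C.swap, g1]))
  set G1 := f q (cj p) with hG1d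
  set q₁ := G1⁻¹ • q with hq₁
  set s₀ := f q₁ (cj q₁) / 2 with hs₀
  set q' := q₁ - s₀ • p with hq'
  have hqp : f q p = 0 := u_symm_zero hf hpq
  have k1 : f q₁ (cj p) = 1 := by rw [hq₁, u_smul_left hf, ← hG1d, inv_mul_cancel₀ hG1]
  have k2 : f q' (cj p) = 1 := by rw [hq', u_sub_left hf, k1, u_smul_left hf, hGp, mul_zero, sub_zero]
  have k3 : f q' (cj q') = 0 := by
    have k1' : f p (cj q₁) = 1 := by rw [C.swap, k1]
    simp only [hq', C.sub, C.smul, u_sub_left hf, u_sub_right hf, u_smul_left hf, u_smul_right hf, u_inv hf, k1,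
      k1', hGp]
    rw [hs₀]
    have := C.two
    field_simp
    ring
  have k4 : f q' q' = 0 := by
    simp [hq', hq₁, u_sub_left hf, u_sub_right hf, u_smul_left hf, u_smul_right hf, hqq, hpp, hpq, hqp]
  have k5 : f p q' = 0 := by simp [hq', hq₁, u_sub_right hf, u_smul_right hf, hpp, hpq]
  have kq : q = G1 • (q' + s₀ • p) := by
    rw [hq', sub_add_cancel, hq₁, smul_smul, mul_inv_cancel₀ hG1, one_smul]
  obtain ⟨α, β, ξ, hα, hξ, hne, hfam⟩ := exists_family C hM K hg hu hv huu hvv hvu (p := p) (q := q')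
    (a := a + b * G1 * s₀) (b := b * G1) (e := e + h * G1 * s₀) (h := h * G1)
    (by rw [← hy₁, e1]; conv_lhs => rw [kq]
        module)
    (by rw [← hy₂, e2]; conv_lhs => rw [kq]
        module)
    (by
      intro h0
      exact mul_ne_zero hdet hG1 (by linear_combination h0))
  exact plus_irr C hM K hp0 hpp k4 k5 hGp k2 k3 hα hξ hne hfam

/-- A moved point yields a rational transvection. -/
theorem plus_good (hι : Fintype.card ι = 4) {a₀ b₀ : ι → F} (ha₀ : cj a₀ = a₀) (hb₀ : cj b₀ = b₀)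
    (haa : f a₀ a₀ = 0) (hbb : f b₀ b₀ = 0) (hab : f a₀ b₀ = 0)
    (hind : ∀ r s : F, r • a₀ + s • b₀ = 0 → r = 0 ∧ s = 0) {g : GL ι F} (hg : g ∈ M) {u : ι → F} (hu : cj u = u)
    (hu0 : u ≠ 0) (huu : f u u = 0)
    (hirr : ∀ μ : F, cj ((g : Matrix ι ι F) *ᵥ u) ≠ μ • ((g : Matrix ι ι F) *ᵥ u)) : Good C.herm cj M := by
  have hf := C.herm
  have h2 := C.two
  have hgi := mem_isoGrp.1 (hM.le hg)
  have hba : f b₀ a₀ = 0 := u_symm_zero hf hab
  -- a second rational vector in a singular plane through u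
  obtain ⟨v, hv, hvv, hvu, hvind⟩ : ∃ v, cj v = v ∧ f v v = 0 ∧ f v u = 0 ∧ ∀ s : F, v ≠ s • u := by
    by_cases h0 : f a₀ u = 0 ∧ f b₀ u = 0
    · by_cases h1 : ∀ s : F, a₀ ≠ s • u
      · exact ⟨a₀, ha₀, haa, h0.1, h1⟩
      by_cases h3 : ∀ s : F, b₀ ≠ s • u
      · exact ⟨b₀, hb₀, hbb, h0.2, h3⟩
      push Not at h1 h3
      obtain ⟨r, hr⟩ := h1
      obtain ⟨s, hs⟩ := h3
      have hr0 : r ≠ 0 := fun e =>
        one_ne_zero (hind 1 0 (by rw [hr, e, zero_smul, smul_zero, zero_smul, add_zero])).1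
      exact absurd (neg_eq_zero.1 (hind s (-r) (by rw [hr, hs]; module)).2) hr0
    set w := f b₀ u • a₀ - f a₀ u • b₀ with hw
    refine ⟨w, by rw [hw, C.sub, C.smul, C.smul, ha₀, hb₀, C.rat ha₀ hu, C.rat hb₀ hu], ?_, ?_, fun s hs => ?_⟩
    · simp [hw, u_sub_left hf, u_sub_right hf, u_smul_left hf, u_smul_right hf, haa, hbb, hab, hba]
    · rw [hw, u_sub_left hf, u_smul_left hf, u_smul_left hf]; ring
    · have hw1 : f w a₀ = 0 := by simp [hw, u_sub_left hf, u_smul_left hf, haa, hba]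
      have hw2 : f w b₀ = 0 := by simp [hw, u_sub_left hf, u_smul_left hf, hbb, hab]
      have hs0 : s ≠ 0 := fun e => h0 (by
        rw [e, zero_smul, hw, sub_eq_add_neg, ← neg_smul] at hs
        have := hind _ _ hs
        exact ⟨neg_eq_zero.1 this.2, this.1⟩)
      rw [hs, u_smul_left hf] at hw1 hw2
      exact h0 ⟨u_symm_zero hf ((mul_eq_zero.1 hw1).resolve_left hs0),
        u_symm_zero hf ((mul_eq_zero.1 hw2).resolve_left hs0)⟩
  obtain ⟨d, hd, hdu, hvd⟩ : ∃ d, cj d = d ∧ f d u = 0 ∧ f v d ≠ 0 := by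
    by_contra hc
    push Not at hc
    obtain ⟨s, hs⟩ := perp_rat C hu hu0 hc
    exact hvind s hs
  have huv : f u v = 0 := u_symm_zero hf hvu
  set c := (f v d)⁻¹ with hc
  have hcr : σ c = c := by rw [hc, map_inv₀, C.rat hv hd]
  obtain ⟨d', hd'⟩ : ∃ x, x = c • d := ⟨_, rfl⟩
  have hvd' : f v d' = 1 := by rw [hd', u_smul_right hf, hcr, hc, inv_mul_cancel₀ hvd]
  have hd'v : f d' v = 1 := by rw [← u_conj hf, hvd', map_one]
  have hd'u : f d' u = 0 := by rw [hd', u_smul_left hf, hdu, mul_zero]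
  have hd'r : cj d' = d' := by rw [hd', C.smul, hcr, hd]
  set v' := d' - (f d' d' / 2) • v with hv'
  have hσh : σ (f d' d' / 2) = f d' d' / 2 := by rw [map_div₀, u_conj hf, map_ofNat]
  have hv'r : cj v' = v' := by rw [hv', C.sub, hd'r, C.smul, hσh, hv]
  have hv'v' : f v' v' = 0 := by
    simp only [hv', u_sub_left hf, u_sub_right hf, u_smul_left hf, u_smul_right hf, hσh, hvd', hd'v, hvv]
    field_simp
    ring
  have hv'u : f v' u = 0 := by rw [hv', u_sub_left hf, u_smul_left hf, hd'u, hvu]; ring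
  have hv'v : f v' v = 1 := by rw [hv', u_sub_left hf, u_smul_left hf, hd'v, hvv]; ring
  have hvv' : f v v' = 1 := by rw [← u_conj hf, hv'v, map_one]
  have huv' : f u v' = 0 := u_symm_zero hf hv'u
  have hind' : ∀ w, f w u = 0 → (∀ s : F, w ≠ s • u) → ∀ r s : F, r • u + s • w = 0 → r = 0 ∧ s = 0 := by
    intro w _ hw r s h
    by_cases hs : s = 0
    · subst hs
      rw [zero_smul, add_zero, smul_eq_zero] at h
      exact ⟨h.resolve_right hu0, rfl⟩
    · refine absurd ?_ (hw (-r / s))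
      have := congrArg (fun x => s⁻¹ • x) h
      simp only [smul_add, smul_smul, inv_mul_cancel₀ hs, one_smul, smul_zero] at this
      rw [eq_neg_of_add_eq_zero_right this, ← neg_smul]
      congr 1
      ring
  have hv'ind : ∀ s : F, v' ≠ s • u := fun s hs => by
    rw [hs, u_smul_left hf, huv, mul_zero] at hv'v
    exact zero_ne_one hv'v
  by_contra hG
  obtain ⟨g1, g2, -⟩ : _ ∧ _ ∧ _ := not_not.1 fun h =>
    hG (plus_plane C hM K hι ha₀ hb₀ haa hbb hab hind hg hu hv huu hvv hvu (hind' v hvu hvind) h)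
  obtain ⟨-, g4, -⟩ : _ ∧ _ ∧ _ := not_not.1 fun h =>
    hG (plus_plane C hM K hι ha₀ hb₀ haa hbb hab hind hg hu hv'r huu hv'v' hv'u (hind' v' hv'u hv'ind) h)
  -- the conjugate of the moved point is proportional to it
  set p := (g : Matrix ι ι F) *ᵥ u with hp
  set z := ((g⁻¹ : GL ι F) : Matrix ι ι F) *ᵥ cj p with hz
  have hgz : (g : Matrix ι ι F) *ᵥ z = cj p := by rw [hz, mulVec_inv_mulVec]
  have hzx : ∀ x, f z x = f (cj p) ((g : Matrix ι ι F) *ᵥ x) := fun x => by rw [← hgi, hgz]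
  obtain ⟨r, hr, hur⟩ : ∃ r, cj r = r ∧ f u r ≠ 0 := by
    by_contra hc
    push Not at hc
    exact hu0 (C.eq_zero hc)
  have hru : f r u ≠ 0 := by rwa [C.rat_comm hu hr]
  have hzu : f z u = 0 := by rw [hzx, ← hp, ← u_conj hf, g1, map_zero]
  have hzv : f z v = 0 := by rw [hzx, C.form_left, g2, map_zero]
  have hzv' : f z v' = 0 := by rw [hzx, C.form_left, g4, map_zero]
  have hzz : z - (f z r / f u r) • u = 0 := by
    refine eq_zero_of_four hf hι (a := u) (b := v) (c := v') (d := r) (fun a b c e h => ?_) ?_ ?_ ?_ ?_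
    · have e1 := congrArg (fun x => f x u) h
      simp only [u_add_left hf, u_smul_left hf, u_zero_left hf, huu, hvu, hv'u, mul_zero, zero_add, mul_eq_zero,
        hru, or_false] at e1
      subst e1
      have e2 := congrArg (fun x => f x v) h
      simp only [u_add_left hf, u_smul_left hf, u_zero_left hf, huv, hvv, hv'v, mul_zero, zero_add, zero_mul,
        add_zero, mul_one] at e2
      subst e2
      have e3 := congrArg (fun x => f x v') h
      simp only [u_add_left hf, u_smul_left hf, u_zero_left hf, huv', hvv', mul_zero, zero_add, zero_mul,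
        add_zero, mul_one] at e3
      subst e3
      simp only [zero_smul, add_zero, smul_eq_zero, hu0, or_false] at h
      exact ⟨h, rfl, rfl, rfl⟩
    · rw [u_sub_left hf, u_smul_left hf, hzu, huu]; ring
    · rw [u_sub_left hf, u_smul_left hf, hzv, huv]; ring
    · rw [u_sub_left hf, u_smul_left hf, hzv', huv']; ring
    · rw [u_sub_left hf, u_smul_left hf, div_mul_cancel₀ _ hur, sub_self]
  refine hirr (f z r / f u r) ?_
  rw [← hgz]
  conv_lhs => rw [sub_eq_zero.1 hzz, mulVec_smul]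

end Cfsg.Agent.H12.SUFour.Orth
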