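import Cfsg.Agent.H98.UnitaryOrth.Basic

/-!
A conjugation of a unitary space, the half-turn about an isotropic vector and its conjugate, and the sandwich step.
-/

set_option autoImplicit false

namespace Cfsg.Agent.H12.SUFour.Orth

open scoped MatrixGroups Matrix
open Matrix Cfsg.Agent.H95 Cfsg.Agent.Symplectic
open Cfsg.Agent.H98.UnitaryOrth (UE)

variable {ι : Type} [Fintype ι] [DecidableEq ι] {F : Type*} [Field F]
  {σ : F ≃+* F} {f : (ι → F) → (ι → F) → F}

/-- The determinant of the identity plus two rank one matrices. -/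
theorem det_rank_two (a b φ ψ : ι → F) :
    (1 + vecMulVec a φ + vecMulVec b ψ : Matrix ι ι F).det =
      (1 + φ ⬝ᵥ a) * (1 + ψ ⬝ᵥ b) - (φ ⬝ᵥ b) * (ψ ⬝ᵥ a) := by
  set A : Matrix ι (Fin 2) F := Matrix.of fun i k => ![a i, b i] k
  set B : Matrix (Fin 2) ι F := Matrix.of fun k i => ![φ i, ψ i] k
  have h : (1 + vecMulVec a φ + vecMulVec b ψ : Matrix ι ι F) = 1 + A * B := by
    ext i j
    simp [A, B, Matrix.mul_apply, Fin.sum_univ_two, vecMulVec_apply, add_assoc]
  rw [h, Matrix.det_one_add_mul_comm, Matrix.det_fin_two]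
  simp [A, B, Matrix.mul_apply, dotProduct]

/-- A conjugation compatible with the form. -/
structure Cj (σ : F ≃+* F) (f : (ι → F) → (ι → F) → F) (cj : (ι → F) → ι → F) : Prop where
  herm : Cfsg.Geo.IsUnitaryForm σ f
  add : ∀ x y, cj (x + y) = cj x + cj y
  smul : ∀ (c : F) x, cj (c • x) = σ c • cj x
  invol : ∀ x, cj (cj x) = x
  form : ∀ x y, f (cj x) (cj y) = σ (f x y)
  two : (2 : F) ≠ 0

variable {cj : (ι → F) → ι → F}

namespace Cj

variable (C : Cj σ f cj)
include C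

theorem zero : cj 0 = 0 := by simpa using C.smul 0 0

theorem neg (x : ι → F) : cj (-x) = -cj x := by
  rw [← neg_one_smul F x, C.smul, map_neg, map_one, neg_one_smul]

theorem sub (x y : ι → F) : cj (x - y) = cj x - cj y := by
  rw [sub_eq_add_neg, C.add, C.neg, ← sub_eq_add_neg]

theorem form_left (x y : ι → F) : f (cj x) y = σ (f x (cj y)) := by
  rw [← C.form, C.invol]

theorem form_left' (x y : ι → F) : f (cj x) y = σ (f y (cj x)) := (u_conj C.herm y (cj x)).symm

theorem swap (x y : ι → F) : f x (cj y) = f y (cj x) := by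
  rw [← u_conj C.herm (cj x) y, C.form_left, u_inv C.herm]

theorem rat {x y : ι → F} (hx : cj x = x) (hy : cj y = y) : σ (f x y) = f x y := by
  rw [← C.form, hx, hy]

theorem rat_comm {x y : ι → F} (hx : cj x = x) (hy : cj y = y) : f y x = f x y := by
  rw [← u_conj C.herm, C.rat hx hy]

theorem re_rat (x : ι → F) : cj (x + cj x) = x + cj x := by rw [C.add, C.invol, add_comm]

theorem im_rat {θ : F} (hθ : σ θ = -θ) (x : ι → F) : cj (θ • (x - cj x)) = θ • (x - cj x) := by
  rw [C.smul, C.sub, C.invol, hθ]; module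

theorem decomp {θ : F} (hθ : σ θ = -θ) (hθ0 : θ ≠ 0) (x : ι → F) :
    ∃ a b, cj a = a ∧ cj b = b ∧ x = a + θ • b := by
  have h2 := C.two
  refine ⟨(2 : F)⁻¹ • (x + cj x), (2 * (θ * θ))⁻¹ • (θ • (x - cj x)), ?_, ?_, ?_⟩
  · rw [C.smul, C.re_rat, map_inv₀, map_ofNat]
  · rw [C.smul, C.im_rat hθ, map_inv₀, map_mul, map_mul, map_ofNat, hθ, neg_mul_neg]
  · rw [smul_smul, smul_smul, show θ * (2 * (θ * θ))⁻¹ * θ = (2 : F)⁻¹ by field_simp, ← smul_add,
      show x + cj x + (x - cj x) = (2 : F) • x by module, smul_smul, inv_mul_cancel₀ h2, one_smul]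

theorem eq_zero {x : ι → F} (h : ∀ r, cj r = r → f x r = 0) : x = 0 := by
  by_contra hx
  obtain ⟨-, w, hw⟩ := C.herm.nondegenerate x hx
  obtain ⟨θ, hθ0, hθ⟩ := exists_skew_ne_zero C.herm
  obtain ⟨a, b, ha, hb, rfl⟩ := C.decomp hθ hθ0 w
  exact hw (by rw [u_add_right C.herm, u_smul_right C.herm, h a ha, h b hb]; ring)

end Cj

/-- `M` consists of isometries and contains the rational elements of determinant one. -/
structure Ov (f : (ι → F) → (ι → F) → F) (cj : (ι → F) → ι → F) (M : Subgroup (GL ι F)) : Prop where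
  le : M ≤ isoGrp f
  mem : ∀ g : GL ι F, g ∈ isoGrp f → g ∈ Cfsg.Geo.specialLinear ι F →
    (∀ x, cj ((g : Matrix ι ι F) *ᵥ x) = (g : Matrix ι ι F) *ᵥ cj x) → g ∈ M

variable {M : Subgroup (GL ι F)}

/-- A rational transvection in `M`. -/
def Good (hf : Cfsg.Geo.IsUnitaryForm σ f) (cj : (ι → F) → ι → F) (M : Subgroup (GL ι F)) : Prop :=
  ∃ x, cj x = x ∧ x ≠ 0 ∧ f x x = 0 ∧ ∃ l : F, σ l = -l ∧ l ≠ 0 ∧ ut hf x l ∈ M

variable (C : Cj σ f cj) (hM : Ov f cj M)
include C hM

/-- The rational Eichler elements. -/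
theorem ue_rat {e d : ι → F} (he : cj e = e) (hd : cj d = d) (hee : f e e = 0) (hde : f d e = 0) :
    UE C.herm M e d (-f d d / 2) := by
  have hf := C.herm
  have hs : σ (-f d d / 2) = -f d d / 2 := by rw [map_div₀, map_neg, u_conj hf, map_ofNat]
  have hok : EichOK hf e d (-f d d / 2) := by
    refine ⟨hee, hde, ?_⟩
    rw [hs]
    have := C.two
    field_simp
    ring
  refine ⟨hok, hM.mem _ (ue_mem_iso hf hok) (ue_mem_sl hf _ _ _) fun x => ?_⟩
  simp only [ue_mulVec hf hok, C.add, C.smul, map_sub, map_mul, hs, hd, he]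
  simp only [← C.form, hd, he]

/-- The half-turn about `p` and its conjugate. -/
theorem exists_half {p : ι → F} (hpp : f p p = 0) (hν : f p (cj p) ≠ 0) :
    ∃ h ∈ M, ∀ x, (h : Matrix ι ι F) *ᵥ x =
      x - (2 * f x (cj p) / f p (cj p)) • p - (2 * f x p / σ (f p (cj p))) • cj p := by
  have hf := C.herm
  set ν := f p (cj p) with hνd
  have hσν : σ ν ≠ 0 := (map_ne_zero_iff σ σ.injective).2 hν
  have hqq : f (cj p) (cj p) = 0 := by rw [C.form, hpp, map_zero]
  have hqp : f (cj p) p = σ ν := (u_conj hf p (cj p)).symm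
  have hdv : ∀ a x : ι → F, dv f a ⬝ᵥ x = f x a := fun a x => u_dot hf a x
  set Q : Matrix ι ι F := 1 + vecMulVec p ((-2 / ν) • dv f (cj p)) + vecMulVec (cj p) ((-2 / σ ν) • dv f p)
    with hQ
  have hQv : ∀ x, Q *ᵥ x = x - (2 * f x (cj p) / ν) • p - (2 * f x p / σ ν) • cj p := fun x => by
    simp only [hQ, add_mulVec, one_mulVec, vecMulVec_mulVec, op_smul_eq_smul, smul_dotProduct, hdv, smul_eq_mul]
    match_scalars <;> field_simp
  have hQQ : Q * Q = 1 := mat_ext fun x => by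
    simp only [← mulVec_mulVec, hQv, one_mulVec, u_sub_left hf, u_smul_left hf, hpp, hqq, hqp, ← hνd]
    match_scalars <;> field_simp <;> ring
  let h : GL ι F := ⟨Q, Q, hQQ, hQQ⟩
  refine ⟨h, hM.mem h ?_ ?_ fun x => ?_, fun x => hQv x⟩
  · rw [mem_isoGrp]
    intro x y
    show f (Q *ᵥ x) (Q *ᵥ y) = f x y
    rw [hQv, hQv]
    simp only [u_sub_left hf, u_sub_right hf, u_smul_left hf, u_smul_right hf, hpp, hqq, hqp, ← hνd, map_div₀,
      map_mul, map_ofNat, u_inv hf, u_conj hf]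
    field_simp
    ring
  · rw [mem_specialLinear_iff]
    show Q.det = 1
    rw [hQ, det_rank_two, smul_dotProduct, smul_dotProduct, smul_dotProduct, smul_dotProduct, hdv, hdv, hdv, hdv,
      hpp, hqq, hqp, ← hνd, smul_eq_mul, smul_eq_mul, smul_eq_mul, smul_eq_mul]
    field_simp
    ring
  · show cj (Q *ᵥ x) = Q *ᵥ cj x
    rw [hQv, hQv, C.sub, C.sub, C.smul, C.smul, C.invol]
    simp only [map_div₀, map_mul, map_ofNat, u_inv hf, C.form, C.form_left]
    abel

/-- Conjugating an Eichler element by the half-turn gives a transvection at its centre. -/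
theorem sandwich {p c : ι → F} {t : F} (h : UE C.herm M p c t) (ht : σ t = t) (hν : f p (cj p) ≠ 0) :
    ut C.herm p (2 * (f c (cj p) / f p (cj p) - σ (f c (cj p) / f p (cj p)))) ∈ M := by
  have hf := C.herm
  have hpp : f p p = 0 := h.1.1
  have hcp : f c p = 0 := h.1.2.1
  have hcc : t + t = -f c c := by have := h.1.2.2; rwa [ht] at this
  obtain ⟨k, hk, hkx⟩ := exists_half C hM hpp hν
  set lam := f c (cj p) / f p (cj p) with hlam
  have hkp : (k : Matrix ι ι F) *ᵥ p = (-1 : F) • p := by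
    rw [hkx, hpp, mul_zero, zero_div, zero_smul, sub_zero, mul_div_assoc, div_self hν]; module
  have hkc : (k : Matrix ι ι F) *ᵥ c = c - (2 * lam) • p := by
    rw [hkx, hcp, mul_zero, zero_div, zero_smul, sub_zero, hlam, mul_div_assoc]
  have h1 := ((h.conj hk (hM.le hk)).congr hkp hkc rfl).smul_center (neg_ne_zero.2 one_ne_zero)
  have h2 := (h.mul h1).congr (e' := p) (d' := (2 * lam) • p) (t' := 0) rfl
    (by rw [map_neg, map_one]; module)
    (by
      rw [map_neg, map_one, u_smul_left hf, u_sub_left hf, u_smul_left hf, u_symm_zero hf hcp]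
      linear_combination hcc)
  have he : ue hf p ((2 * lam) • p) 0 = ut hf p (2 * (lam - σ lam)) := by
    refine gl_ext fun x => ?_
    rw [ue_mulVec hf h2.1, ut_mulVec hf hpp, u_smul_right hf, map_mul, map_ofNat]
    module
  exact he ▸ h2.2

/-- A rational Eichler element moved by `k` gives a rational transvection or a real coefficient. -/
theorem good_or_real {k : GL ι F} (hk : k ∈ M) {x d : ι → F} (hx : cj x = x) (hd : cj d = d) (hx0 : x ≠ 0)
    (hxx : f x x = 0) (hdx : f d x = 0)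
    (hν : f ((k : Matrix ι ι F) *ᵥ x) (cj ((k : Matrix ι ι F) *ᵥ x)) ≠ 0) :
    Good C.herm cj M ∨
      σ (f ((k : Matrix ι ι F) *ᵥ d) (cj ((k : Matrix ι ι F) *ᵥ x)) /
        f ((k : Matrix ι ι F) *ᵥ x) (cj ((k : Matrix ι ι F) *ᵥ x))) =
      f ((k : Matrix ι ι F) *ᵥ d) (cj ((k : Matrix ι ι F) *ᵥ x)) /
        f ((k : Matrix ι ι F) *ᵥ x) (cj ((k : Matrix ι ι F) *ᵥ x)) := by
  have hf := C.herm
  set lam := f ((k : Matrix ι ι F) *ᵥ d) (cj ((k : Matrix ι ι F) *ᵥ x)) /
    f ((k : Matrix ι ι F) *ᵥ x) (cj ((k : Matrix ι ι F) *ᵥ x)) with hlam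
  by_cases hl : σ lam = lam
  · exact Or.inr hl
  refine Or.inl ⟨x, hx, hx0, hxx, 2 * (lam - σ lam), ?_, ?_, ?_⟩
  · rw [map_mul, map_ofNat, map_sub, u_inv hf]; ring
  · exact mul_ne_zero C.two (sub_ne_zero.2 (Ne.symm hl))
  · have h1 := (ue_rat C hM hx hd hxx hdx).conj hk (hM.le hk)
    have h2 := sandwich C hM h1 (by rw [map_div₀, map_neg, u_conj hf, map_ofNat]) hν
    have h3 := M.mul_mem (M.mul_mem (M.inv_mem hk) h2) hk
    have hpp : f ((k : Matrix ι ι F) *ᵥ x) ((k : Matrix ι ι F) *ᵥ x) = 0 := h1.1.1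
    have e := conj_ut hf (Subgroup.inv_mem _ (hM.le hk)) hpp (2 * (lam - σ lam))
    rw [inv_inv, inv_mulVec_mulVec] at e
    rwa [← hlam, e] at h3

end Cfsg.Agent.H12.SUFour.Orth
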