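import Cfsg.Agent.H98.UnitaryOrth.Main

/-!
One rational transvection generates the special unitary group, from dimension four.
-/

set_option autoImplicit false

namespace Cfsg.Agent.H12.SUFour.Orth

open scoped MatrixGroups Matrix
open Matrix QuadraticMap Module Cfsg.Agent.H95 Cfsg.Agent.Symplectic Cfsg.Agent.Orthogonal
open Cfsg.Agent.H98.UnitaryOrth Cfsg.Agent.H98.UnitaryOrth.ORat
open Cfsg.Agent.H98.SubfieldOrth (exists_hyp exists_hyp_at le_of_singular)

variable {ι : Type} [Fintype ι] [DecidableEq ι] {F : Type*} [Field F] [Finite F]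
  {σ : F ≃+* F} {f : (ι → F) → (ι → F) → F} {F₀ : Subfield F} {R : ORat σ f F₀} {M : Subgroup (GL ι F)}


variable (hM : R.Over M) (hn : 4 ≤ Fintype.card ι)
include hM hn

/-- Rational elements move rational isotropic vectors onto their rational partners. -/
theorem move_four {u v : R.V₀} (hu : R.Q₀ u = 0) (hv : R.Q₀ v = 0) (huv : polar R.Q₀ u v ≠ 0) :
    ∃ k ∈ M, (k : Matrix ι ι F) *ᵥ (u : ι → F) = v := by
  have := R.finiteDimensional
  have hd0 : finrank F₀ R.V₀ = Fintype.card ι := R.finrank_eq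
  set c := polar R.Q₀ u v with hc
  set v' := c⁻¹ • v with hv'
  have hv's : R.Q₀ v' = 0 := by rw [hv', qmap_smul, hv, mul_zero]
  have huv' : polar R.Q₀ u v' = 1 := by rw [hv', polar_smul_right', inv_mul_cancel₀ huv]
  have hW := R.nondeg.finrank_hyperbolic_perp hu hv's huv'
  obtain ⟨⟨d, hdp⟩, hd⟩ := (R.nondeg.nondeg_hyperbolic_perp hu hv's huv').exists_value (by omega) (-c⁻¹)
  change R.Q₀ d = -c⁻¹ at hd
  obtain ⟨hud, hv'd⟩ := (mem_perp_span_pair R.Q₀).1 hdp
  have hvd : polar R.Q₀ v d = 0 := by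
    rw [hv', polar_smul_left'] at hv'd
    exact (mul_eq_zero.1 hv'd).resolve_left (inv_ne_zero huv)
  set ξ := c⁻¹ • u + c⁻¹ • v + d with hξ
  have hξs : R.Q₀ ξ = 0 := by
    simp only [hξ, map_add_polar, qmap_smul, polar_add_left, polar_smul_left', polar_smul_right', hu, hv, hd, hud,
      hvd, ← hc]
    field_simp
    ring
  have huξ : polar R.Q₀ u ξ = 1 := by
    simp only [hξ, polar_add_right, polar_smul_right', polar_self', hu, hud, ← hc]
    field_simp
    ring
  have hvξ : polar R.Q₀ v ξ = 1 := by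
    simp only [hξ, polar_add_right, polar_smul_right', polar_self', hv, hvd, polar_comm (⇑R.Q₀) v u, ← hc]
    field_simp
    ring
  have h := hM.rat ξ (v - u) hξs (by
    rw [polar_sub_right, polar_comm (⇑R.Q₀) ξ v, polar_comm (⇑R.Q₀) ξ u, hvξ, huξ, sub_self])
  refine ⟨_, h.2, ?_⟩
  have h2 := R.two
  have huf : f (u : ι → F) (u : ι → F) = 0 := R.iso_of hu
  have hvf : f (v : ι → F) (v : ι → F) = 0 := R.iso_of hv
  have hswap : f (v : ι → F) (u : ι → F) = f (u : ι → F) (v : ι → F) := by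
    rw [← R.sigma_f u v, u_conj R.herm]
  rw [ue_mulVec R.herm h.1, R.one_of huξ, Submodule.coe_sub]
  simp only [u_sub_left R.herm, u_sub_right R.herm, huf, hvf, hswap]
  match_scalars <;> field_simp <;> ring

/-- A rational transvection is carried to every rational isotropic line. -/
theorem utIn_rat_four {x : R.V₀} (hx0 : x ≠ 0) (hx : R.Q₀ x = 0) {l : F}
    (hl : σ l = -l) (hl0 : l ≠ 0) (hmem : ut R.herm (x : ι → F) l ∈ M) :
    ∀ v : R.V₀, R.Q₀ v = 0 → UtIn R.herm M (v : ι → F) := by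
  have := R.finiteDimensional
  have hd0 : finrank F₀ R.V₀ = Fintype.card ι := R.finrank_eq
  have hxU : UtIn R.herm M (x : ι → F) := by
    intro m hm
    obtain ⟨s, t, hst⟩ := Cfsg.Agent.Orthogonal.exists_sq_add_sq (one_ne_zero' F₀) one_ne_zero
      (⟨m / l, (R.fixed _).1 (by rw [map_div₀, hm, hl, neg_div_neg_eq])⟩ : F₀)
    have hst' : (s : F) ^ 2 + (t : F) ^ 2 = m / l := by
      have := congrArg Subtype.val hst
      simpa using this
    have key : ∀ s : F₀, ut R.herm (x : ι → F) (l * (s : F) ^ 2) ∈ M := fun s => by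
      rcases eq_or_ne s 0 with rfl | hs
      · simp [ut_zero R.herm _ (R.iso_of hx)]
      obtain ⟨f', hf', hxf⟩ := R.nondeg.exists_partner hx0 hx
      obtain ⟨k₁, hk₁, e₁⟩ := move_four hM hn hx hf' (by rw [hxf]; exact one_ne_zero)
      obtain ⟨k₂, hk₂, e₂⟩ := move_four hM hn hf' (v := s • x) (by rw [qmap_smul, hx, mul_zero])
        (by rw [polar_smul_right', polar_comm, hxf, mul_one]; exact hs)
      have hk : k₂ * k₁ ∈ M := M.mul_mem hk₂ hk₁
      have h := M.mul_mem (M.mul_mem hk hmem) (M.inv_mem hk)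
      rw [conj_ut R.herm (hM.le hk) (R.iso_of hx), mul_mulVec, e₁, e₂, R.coe_smul, ut_smul_vec R.herm (R.iso_of hx),
        (R.fixed _).2 s.2, ← pow_two] at h
      exact h
    have := M.mul_mem (key s) (key t)
    rwa [ut_add R.herm (R.iso_of hx), ← mul_add, hst', mul_div_cancel₀ _ hl0] at this
  intro v hv
  have hmove : ∀ u w : R.V₀, R.Q₀ u = 0 → R.Q₀ w = 0 → polar R.Q₀ u w ≠ 0 → UtIn R.herm M (u : ι → F) →
      UtIn R.herm M (w : ι → F) := fun u w hu hw huw hU => by
    obtain ⟨k, hk, e⟩ := move_four hM hn hu hw huw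
    exact e ▸ hU.conj R.herm (R.iso_of hu) hk (hM.le hk)
  rcases eq_or_ne v 0 with rfl | hv0
  · intro m _
    convert M.one_mem
    exact gl_ext fun y => by rw [ut_mulVec R.herm (R.iso_of hv)]; simp
  by_cases hxv : polar R.Q₀ x v = 0
  · obtain ⟨w, hw, hxw, hvw⟩ := exists_common_partner R.nondeg (by omega) hx0 hv0 hx hv
    exact hmove w v hw hv (by rw [polar_comm]; exact hvw) (hmove x w hx hw hxw hxU)
  · exact hmove x v hx hv hxv hxU

/-- All transvections lie in `M` as soon as one rational transvection does. -/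
theorem utIn_all_four {θ : F} (hθ : σ θ = -θ) (hθ0 : θ ≠ 0) {x : R.V₀} (hx0 : x ≠ 0) (hx : R.Q₀ x = 0) {l : F}
    (hl : σ l = -l) (hl0 : l ≠ 0) (hmem : ut R.herm (x : ι → F) l ∈ M) :
    ∀ w : ι → F, f w w = 0 → UtIn R.herm M w := by
  have := R.finiteDimensional
  have hf := R.herm
  have hd0 : finrank F₀ R.V₀ = Fintype.card ι := R.finrank_eq
  have hU := utIn_rat_four hM hn hx0 hx hl hl0 hmem
  intro w hw
  rcases eq_or_ne w 0 with rfl | hw0
  · intro m _
    convert M.one_mem
    exact gl_ext fun y => by rw [ut_mulVec hf hw]; simp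
  -- a rational isotropic vector not orthogonal to w
  obtain ⟨z, hz, hzw⟩ : ∃ z : R.V₀, R.Q₀ z = 0 ∧ f w (z : ι → F) ≠ 0 := by
    by_contra hc
    push Not at hc
    let S : Submodule F₀ R.V₀ :=
      { carrier := {v | f w (v : ι → F) = 0}
        add_mem' := fun {a b} ha hb => by
          show f w ((a + b : R.V₀) : ι → F) = 0
          rw [Submodule.coe_add, u_add_right hf, ha, hb, add_zero]
        zero_mem' := u_zero_right hf w
        smul_mem' := fun s a ha => by
          show f w ((s • a : R.V₀) : ι → F) = 0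
          rw [R.coe_smul, u_smul_right hf, ha, mul_zero] }
    have hS : S = ⊤ := span_singular R.nondeg (by omega) S hc
    exact hw0 (R.eq_zero_of_orth fun v => (hS ▸ Submodule.mem_top : v ∈ S))
  have hz0 : z ≠ 0 := fun h => hzw (by rw [h, ZeroMemClass.coe_zero, u_zero_right hf])
  obtain ⟨y, -, hy, hzy, C, -, hC, hdC, hCz, hCm⟩ :=
    exists_hyp_at R.nondeg (nondeg_restr_top R.nondeg) (x := z) Submodule.mem_top hz0 hz
  rw [finrank_top] at hdC
  have fzy : f (z : ι → F) (y : ι → F) = 1 := R.one_of hzy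
  have fyz : f (y : ι → F) (z : ι → F) = 1 := R.one_of (by rw [polar_comm]; exact hzy)
  have fzz : f (z : ι → F) (z : ι → F) = 0 := R.iso_of hz
  have fyy : f (y : ι → F) (y : ι → F) = 0 := R.iso_of hy
  -- the Eichler elements at z
  have hself : ∀ a : F, ∃ t, UE hf M (z : ι → F) (a • (z : ι → F)) t := fun a => by
    have hok : EichOK hf (z : ι → F) (a • (z : ι → F)) 0 :=
      ⟨fzz, by rw [u_smul_left hf, fzz, mul_zero], by rw [u_smul_left hf, u_smul_right hf, fzz]; simp⟩
    refine ⟨0, hok, ?_⟩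
    have he : ue hf (z : ι → F) (a • (z : ι → F)) 0 = ut hf (z : ι → F) (a - σ a) := by
      refine gl_ext fun q => ?_
      rw [ue_mulVec hf hok, ut_mulVec hf fzz, u_smul_right hf]
      module
    exact he ▸ hU z hz _ (by rw [map_sub, u_inv hf]; ring)
  let S : Submodule F₀ R.V₀ :=
    { carrier := {v | ∀ a : F, ∃ t, UE hf M (z : ι → F) (a • (v : ι → F)) t}
      add_mem' := fun {p r} hp hr a => by
        obtain ⟨t₁, h₁⟩ := hp a
        obtain ⟨t₂, h₂⟩ := hr a
        exact ⟨_, (h₁.mul h₂).congr rfl (by rw [Submodule.coe_add, smul_add]) rfl⟩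
      zero_mem' := fun a => by
        obtain ⟨t, h⟩ := hself 0
        exact ⟨t, h.congr rfl (by simp) rfl⟩
      smul_mem' := fun s v hv a => by
        obtain ⟨t, h⟩ := hv (a * (s : F))
        exact ⟨t, h.congr rfl (by rw [R.coe_smul, smul_smul]) rfl⟩ }
  have hCS : C ≤ S := fun v hvC a => by
    obtain ⟨c₁, c₂, hc⟩ := R.exists_parts hθ hθ0 a
    obtain ⟨hzv, hyv⟩ := hCz v hvC
    have h1 := hM.rat z (c₁ • v) hz (by rw [polar_smul_right', hzv, mul_zero])
    -- the element exchanging the two points turns a rational vector into an imaginary one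
    have hθn : σ (-θ⁻¹) = -(-θ⁻¹) := by rw [map_neg, map_inv₀, hθ, inv_neg]
    set w₀ := ut hf (z : ι → F) θ * ut hf (y : ι → F) (-θ⁻¹) * ut hf (z : ι → F) θ with hw₀
    have hw₀M : w₀ ∈ M := M.mul_mem (M.mul_mem (hU z hz _ hθ) (hU y hy _ hθn)) (hU z hz _ hθ)
    have hwy : (w₀ : Matrix ι ι F) *ᵥ (y : ι → F) = θ • (z : ι → F) := by
      simp only [hw₀, mul_mulVec, ut_mulVec hf fzz, ut_mulVec hf fyy, u_add_left hf, u_smul_left hf, fzz, fyy,
        fzy, fyz]
      match_scalars <;> field_simp <;> ring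
    have fvz : f ((-(c₂ • v) : R.V₀) : ι → F) (z : ι → F) = 0 :=
      R.zero_of (by rw [polar_neg_left, polar_smul_left', polar_comm, hzv, mul_zero, neg_zero])
    have fvy : f ((-(c₂ • v) : R.V₀) : ι → F) (y : ι → F) = 0 :=
      R.zero_of (by rw [polar_neg_left, polar_smul_left', polar_comm, hyv, mul_zero, neg_zero])
    have hwv : (w₀ : Matrix ι ι F) *ᵥ ((-(c₂ • v) : R.V₀) : ι → F) = ((-(c₂ • v) : R.V₀) : ι → F) := by
      simp only [hw₀, mul_mulVec, ut_mulVec hf fzz, ut_mulVec hf fyy, fvz, fvy, mul_zero, zero_smul, add_zero]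
    have h2 := (((hM.rat y (-(c₂ • v)) hy (by rw [polar_neg_right, polar_smul_right', hyv, mul_zero, neg_zero])).conj
      hw₀M (hM.le hw₀M)).congr hwy hwv rfl).smul_center hθ0
    refine ⟨_, (h1.mul h2).congr rfl ?_ rfl⟩
    rw [hc, hθ, Submodule.coe_neg, R.coe_smul, R.coe_smul]
    module
  let π : (ι → F) → (ι → F) := fun q => q - f q (y : ι → F) • (z : ι → F) - f q (z : ι → F) • (y : ι → F)
  have hπ : ∀ q (a : F), ∃ t, UE hf M (z : ι → F) (a • π q) t := by
    intro q
    have hq : q ∈ Submodule.span F (R.V₀ : Set (ι → F)) := R.span_eq ▸ Submodule.mem_top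
    induction hq using Submodule.span_induction with
    | mem p hp =>
      intro a
      obtain ⟨t, ht⟩ := hCS (hCm (⟨p, hp⟩ - polar R.Q₀ ⟨p, hp⟩ y • z - polar R.Q₀ ⟨p, hp⟩ z • y) Submodule.mem_top
        (by simp only [polar_sub_right, polar_smul_right', polar_self', hz, hzy, polar_comm (⇑R.Q₀) z ⟨p, hp⟩]; ring)
        (by simp only [polar_sub_right, polar_smul_right', polar_self', hy, polar_comm (⇑R.Q₀) y z, hzy,
              polar_comm (⇑R.Q₀) y ⟨p, hp⟩]; ring)) a
      refine ⟨t, ht.congr rfl ?_ rfl⟩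
      simp only [π, Submodule.coe_sub, R.coe_smul, R.coe]
    | zero =>
      intro a
      obtain ⟨t, h⟩ := hself 0
      exact ⟨t, h.congr rfl (by simp [π, u_zero_left hf]) rfl⟩
    | add p r _ _ hp hr =>
      intro a
      obtain ⟨t₁, h₁⟩ := hp a
      obtain ⟨t₂, h₂⟩ := hr a
      exact ⟨_, (h₁.mul h₂).congr rfl (by simp only [π, u_add_left hf]; module) rfl⟩
    | smul s p _ hp =>
      intro a
      obtain ⟨t, h⟩ := hp (a * s)
      exact ⟨t, h.congr rfl (by simp only [π, u_smul_left hf]; module) rfl⟩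
  set w' := (f w (z : ι → F))⁻¹ • w with hw'
  have fwz : f w' (z : ι → F) = 1 := by rw [hw', u_smul_left hf, inv_mul_cancel₀ hzw]
  have fww : f w' w' = 0 := by rw [hw', u_smul_left hf, u_smul_right hf, hw]; simp
  set d := w' - (y : ι → F) with hd
  have fdz : f d (z : ι → F) = 0 := by rw [hd, u_sub_left hf, fwz, fyz, sub_self]
  obtain ⟨t₁, h₁⟩ := hπ d 1
  obtain ⟨t₂, h₂⟩ := hself (f d (y : ι → F))
  have h3 := (h₁.mul h₂).congr (d' := d) rfl (by simp only [π, fdz, one_smul, zero_smul, sub_zero]; abel) rfl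
  have hok : EichOK hf (z : ι → F) d (f (y : ι → F) w') := by
    refine ⟨fzz, fdz, ?_⟩
    rw [u_conj hf, hd]
    simp only [u_sub_left hf, u_sub_right hf, fww, fyy]
    ring
  have h4 := ue_shift (R := R) h3 (hU z hz) hok
  have hk : (ue hf (z : ι → F) d (f (y : ι → F) w') : Matrix ι ι F) *ᵥ (y : ι → F) = w' := by
    rw [ue_mulVec hf hok, fyz, hd, u_sub_right hf, fyy]
    simp
  have hUw : UtIn hf M w' := hk ▸ (hU y hy).conj hf fyy h4.2 (hM.le h4.2)
  have := hUw.smul hf fww (f w (z : ι → F))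
  rwa [hw', smul_inv_smul₀ hzw] at this

end Cfsg.Agent.H12.SUFour.Orth
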