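import Cfsg.Agent.H12.SUFour.Orth.Basic

/-!
Auxiliary facts about a conjugation of a four dimensional unitary space.
-/

set_option autoImplicit false

namespace Cfsg.Agent.H12.SUFour.Orth

open scoped MatrixGroups Matrix
open Matrix Cfsg.Agent.H95 Cfsg.Agent.Symplectic

variable {ι : Type} [Fintype ι] [DecidableEq ι] {F : Type*} [Field F]
  {σ : F ≃+* F} {f : (ι → F) → (ι → F) → F} {cj : (ι → F) → ι → F} {M : Subgroup (GL ι F)}

/-- The arithmetic of the field that is used. -/
structure Fld (σ : F ≃+* F) (θ m : F) : Prop where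
  skew : σ θ = -θ
  skew0 : θ ≠ 0
  real : σ m = m
  real0 : m ≠ 0
  real1 : m * m ≠ 1
  sq : ∀ r, σ r = r → IsSquare r
  norm : ∀ r, σ r = r → ∃ s, s * σ s = r
  mul : ∀ a b : F, ¬IsSquare a → ¬IsSquare b → IsSquare (a * b)

/-- A vector orthogonal to four independent ones is zero. -/
theorem eq_zero_of_four (hf : Cfsg.Geo.IsUnitaryForm σ f) (hι : Fintype.card ι = 4) {a b c d x : ι → F}
    (hind : ∀ r s t w : F, r • a + s • b + t • c + w • d = 0 → r = 0 ∧ s = 0 ∧ t = 0 ∧ w = 0)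
    (ha : f x a = 0) (hb : f x b = 0) (hc : f x c = 0) (hd : f x d = 0) : x = 0 := by
  by_contra hx
  obtain ⟨-, y, hy⟩ := hf.nondegenerate x hx
  refine hy ?_
  have hli : LinearIndependent F ![a, b, c, d] := by
    rw [Fintype.linearIndependent_iff]
    intro w hw
    simp only [Fin.sum_univ_four] at hw
    obtain ⟨h0, h1, h2, h3⟩ := hind _ _ _ _ hw
    intro i
    fin_cases i <;> assumption
  have htop := hli.span_eq_top_of_card_eq_finrank (by simp [hι])
  have hy' : y ∈ Submodule.span F (Set.range ![a, b, c, d]) := htop ▸ Submodule.mem_top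
  obtain ⟨w, rfl⟩ := (Submodule.mem_span_range_iff_exists_fun F).1 hy'
  simp [Fin.sum_univ_four, u_add_right hf, u_smul_right hf, ha, hb, hc, hd]

/-- A non-zero vector orthogonal to three given ones. -/
theorem exists_perp_three (hf : Cfsg.Geo.IsUnitaryForm σ f) (hι : Fintype.card ι = 4) (a b c : ι → F) :
    ∃ x, x ≠ 0 ∧ f x a = 0 ∧ f x b = 0 ∧ f x c = 0 := by
  let L : (ι → F) →ₗ[F] (Fin 3 → F) :=
    { toFun := fun x k => f x (![a, b, c] k)
      map_add' := fun x y => funext fun k => u_add_left hf x y _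
      map_smul' := fun r x => funext fun k => u_smul_left hf r x _ }
  have hne : L.ker ≠ ⊥ := by
    intro hb
    have := LinearMap.finrank_le_finrank_of_injective (LinearMap.ker_eq_bot.1 hb)
    rw [Module.finrank_fin_fun, Module.finrank_fintype_fun_eq_card] at this
    omega
  obtain ⟨x, hx, hx0⟩ := L.ker.ne_bot_iff.1 hne
  have h := LinearMap.mem_ker.1 hx
  exact ⟨x, hx0, congrFun h 0, congrFun h 1, congrFun h 2⟩

variable (C : Cj σ f cj)
include C

/-- A vector on a stable line has a rational multiple. -/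
theorem rat_of_prop {θ : F} (hθ : σ θ = -θ) (hθ0 : θ ≠ 0) {z : ι → F} {μ : F} (h : cj z = μ • z) :
    ∃ a : F, a ≠ 0 ∧ cj (a • z) = a • z := by
  by_cases hμ : 1 + μ = 0
  · exact ⟨θ, hθ0, by rw [C.smul, h, hθ, eq_neg_of_add_eq_zero_right hμ]; module⟩
  · exact ⟨1 + μ, hμ, by rw [add_smul, one_smul, ← h, C.re_rat]⟩

/-- A vector orthogonal to the rational hyperplane of a rational vector is a multiple of it. -/
theorem perp_rat {x w : ι → F} (hx : cj x = x) (hx0 : x ≠ 0)
    (h : ∀ d, cj d = d → f d x = 0 → f w d = 0) : ∃ s : F, w = s • x := by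
  have hf := C.herm
  obtain ⟨r, hr, hxr⟩ : ∃ r, cj r = r ∧ f x r ≠ 0 := by
    by_contra hc
    push Not at hc
    exact hx0 (C.eq_zero hc)
  refine ⟨f w r / f x r, sub_eq_zero.1 (C.eq_zero fun v hv => ?_)⟩
  have hrx : f r x ≠ 0 := by rwa [C.rat_comm hx hr]
  have hcc : σ (f v x / f r x) = f v x / f r x := by rw [map_div₀, C.rat hv hx, C.rat hr hx]
  have h1 := h (v - (f v x / f r x) • r) (by rw [C.sub, C.smul, hv, hr, hcc])
    (by rw [u_sub_left hf, u_smul_left hf, div_mul_cancel₀ _ hrx, sub_self])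
  rw [u_sub_right hf, u_smul_right hf, hcc, C.rat_comm hx hr, C.rat_comm hx hv] at h1
  rw [u_sub_left hf, u_smul_left hf]
  field_simp at h1 ⊢
  linear_combination h1

/-- A transvection whose centre is orthogonal to its conjugate yields a rational one. -/
theorem good_of_ut (hM : Ov f cj M) {θ : F} (hθ : σ θ = -θ) (hθ0 : θ ≠ 0) {p : ι → F} (hp0 : p ≠ 0)
    (hpp : f p p = 0) (hG : f p (cj p) = 0) {l : F} (hl : σ l = -l) (hl0 : l ≠ 0)
    (h : ut C.herm p l ∈ M) : Good C.herm cj M := by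
  have hf := C.herm
  by_cases hp : ∃ μ : F, cj p = μ • p
  · obtain ⟨μ, hμ⟩ := hp
    obtain ⟨a, ha, hap⟩ := rat_of_prop C hθ hθ0 hμ
    have hσa : σ a ≠ 0 := (map_ne_zero_iff σ σ.injective).2 ha
    refine ⟨a • p, hap, smul_ne_zero ha hp0, by rw [u_smul_left hf, u_smul_right hf, hpp, mul_zero, mul_zero], l / (a * σ a), ?_,
      div_ne_zero hl0 (mul_ne_zero ha hσa), ?_⟩
    · rw [map_div₀, map_mul, u_inv hf, hl, mul_comm (σ a) a, neg_div]
    · rw [ut_smul_vec hf hpp]
      convert h using 2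
      field_simp
  push Not at hp
  set x := p + cj p with hxdef
  have hx : cj x = x := C.re_rat p
  have hx0 : x ≠ 0 := fun h0 => hp (-1) (by rw [eq_neg_of_add_eq_zero_right h0]; module)
  have hqp : f (cj p) p = 0 := u_symm_zero hf hG
  have hpx : f p x = 0 := by rw [hxdef, u_add_right hf, hpp, hG, add_zero]
  have hxx : f x x = 0 := by
    simp only [hxdef, u_add_left hf, u_add_right hf, C.form, hpp, hG, hqp, map_zero, add_zero]
  obtain ⟨d, hd, hdx, hpd⟩ : ∃ d, cj d = d ∧ f d x = 0 ∧ f p d ≠ 0 := by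
    by_contra hc
    push Not at hc
    obtain ⟨s, hs⟩ := perp_rat C hx hx0 hc
    have hs0 : s ≠ 0 := fun e => hp0 (by rw [hs, e, zero_smul])
    refine hp (σ s / s) ?_
    rw [hs, C.smul, hx, smul_smul, div_mul_cancel₀ _ hs0]
  set a := f p d with ha
  have hk := ue_rat C hM hx hd hxx hdx
  have hk' := ue_rat C hM hx (d := -d) (by rw [C.neg, hd]) hxx (by rw [u_neg_left hf, hdx, neg_zero])
  have e1 : (ue hf x d (-f d d / 2) : Matrix ι ι F) *ᵥ p = p - a • x := by
    rw [ue_mulVec hf hk.1, hpx, ← ha]; module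
  have e2 : (ue hf x (-d) (-f (-d) (-d) / 2) : Matrix ι ι F) *ᵥ p = p + a • x := by
    rw [ue_mulVec hf hk'.1, hpx, show f p (-d) = -a from u_neg_right hf p d]; module
  have h1 := M.mul_mem (M.mul_mem hk.2 h) (M.inv_mem hk.2)
  rw [conj_ut hf (hM.le hk.2) hpp, e1] at h1
  have h2 := M.mul_mem (M.mul_mem hk'.2 h) (M.inv_mem hk'.2)
  rw [conj_ut hf (hM.le hk'.2) hpp, e2] at h2
  refine ⟨x, hx, hx0, hxx, 2 * (a * σ a) * l, ?_, ?_, ?_⟩
  · rw [map_mul, map_mul, map_mul, map_ofNat, u_inv hf, hl]; ring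
  · exact mul_ne_zero (mul_ne_zero C.two (mul_ne_zero hpd ((map_ne_zero_iff σ σ.injective).2 hpd))) hl0
  · have h3 := M.mul_mem (M.mul_mem h1 h2) (M.inv_mem (M.mul_mem h h))
    convert h3 using 1
    rw [eq_mul_inv_iff_mul_eq]
    have hxp : f x p = 0 := u_symm_zero hf hpx
    have hm : f (p - a • x) (p - a • x) = 0 := by
      simp [u_sub_left hf, u_sub_right hf, u_smul_left hf, u_smul_right hf, hpp, hpx, hxp, hxx]
    have hp' : f (p + a • x) (p + a • x) = 0 := by
      simp [u_add_left hf, u_add_right hf, u_smul_left hf, u_smul_right hf, hpp, hpx, hxp, hxx]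
    refine gl_ext fun y => ?_
    simp only [mul_mulVec, ut_mulVec hf hxx, ut_mulVec hf hpp, ut_mulVec hf hm, ut_mulVec hf hp', u_add_left hf,
      u_sub_left hf, u_add_right hf, u_sub_right hf, u_smul_left hf, u_smul_right hf, hpp, hpx, hxp, hxx]
    match_scalars <;> ring

end Cfsg.Agent.H12.SUFour.Orth
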