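import Cfsg.Agent.H12.SUFour.Orth.Minus
import Cfsg.Agent.H12.SUFour.Orth.Plus
import Cfsg.Agent.H12.SUFour.Orth.Gen
import Cfsg.Agent.S5659

/-!
Orthogonal subfield groups are maximal in the special unitary group of dimension four.
-/

set_option autoImplicit false

namespace Cfsg.Agent.H12.SUFour.Orth

open scoped MatrixGroups Matrix
open Matrix QuadraticMap Module Cfsg.Agent.H95 Cfsg.Agent.Symplectic Cfsg.Agent.Orthogonal
open Cfsg.Agent.H98.UnitaryOrth Cfsg.Agent.H98.UnitaryOrth.ORat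
open Cfsg.Agent.H98.SubfieldOrth (exists_hyp ratPts mem_subfieldSubgroup_iff)

variable {ι : Type} [Fintype ι] [DecidableEq ι] {F : Type*} [Field F] [Finite F]
  {σ : F ≃+* F} {f : (ι → F) → (ι → F) → F} {F₀ : Subfield F}

/-- Elements preserving all rational isotropic points preserve the rational space up to a scalar. -/
theorem stab_of_points_four {R : ORat σ f F₀} (hn : 4 ≤ Fintype.card ι) {g : GL ι F} (hgi : g ∈ isoGrp f)
    (h : ∀ u : R.V₀, R.Q₀ u = 0 → ∃ c : F, c ≠ 0 ∧ c • ((g : Matrix ι ι F) *ᵥ (u : ι → F)) ∈ R.V₀) :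
    ∃ c : F, c ≠ 0 ∧ ∀ v ∈ R.V₀, c • ((g : Matrix ι ι F) *ᵥ v) ∈ R.V₀ := by
  have := R.finiteDimensional
  have hd0 : finrank F₀ R.V₀ = Fintype.card ι := R.finrank_eq
  have hf := R.herm
  obtain ⟨u₀, hu₀, hq₀⟩ := R.nondeg.exists_singular (by omega)
  obtain ⟨c₀, hc₀, hc₀v⟩ := h u₀ hq₀
  have near : ∀ u v : R.V₀, R.Q₀ v = 0 → polar R.Q₀ u v ≠ 0 → c₀ • ((g : Matrix ι ι F) *ᵥ (u : ι → F)) ∈ R.V₀ →
      c₀ • ((g : Matrix ι ι F) *ᵥ (v : ι → F)) ∈ R.V₀ := fun u v hv huv hu => by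
    obtain ⟨c, hc, hcv⟩ := h v hv
    have h1 := R.f_mem ⟨_, hu⟩ ⟨_, hcv⟩
    simp only [u_smul_left hf, u_smul_right hf, mem_isoGrp.1 hgi] at h1
    rw [← R.coe] at h1
    have hsc : σ c ≠ 0 := fun e => hc ((map_eq_zero_iff σ σ.injective).1 e)
    have hp0 : ((polar R.Q₀ u v : F₀) : F) ≠ 0 := fun e => huv (Subtype.ext e)
    have h2 : c₀ * σ c ∈ F₀ := by
      have := F₀.div_mem h1 (polar R.Q₀ u v).2
      convert this using 1
      field_simp
    have h3 : c * σ c ∈ F₀ := (R.fixed _).1 (by rw [map_mul, u_inv hf]; ring)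
    have h4 := F₀.div_mem h2 h3
    rw [mul_div_mul_right _ _ hsc] at h4
    have h5 := R.V₀.smul_mem (⟨_, h4⟩ : F₀) hcv
    rwa [Subfield.smul_def, smul_smul, div_mul_cancel₀ c₀ hc] at h5
  let S : Submodule F₀ R.V₀ :=
    { carrier := {v | c₀ • ((g : Matrix ι ι F) *ᵥ (v : ι → F)) ∈ R.V₀}
      add_mem' := fun {p r} hp hr => by
        show c₀ • ((g : Matrix ι ι F) *ᵥ ((p + r : R.V₀) : ι → F)) ∈ R.V₀
        rw [Submodule.coe_add, mulVec_add, smul_add]; exact R.V₀.add_mem hp hr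
      zero_mem' := by
        show c₀ • ((g : Matrix ι ι F) *ᵥ ((0 : R.V₀) : ι → F)) ∈ R.V₀
        rw [ZeroMemClass.coe_zero, mulVec_zero, smul_zero]; exact R.V₀.zero_mem
      smul_mem' := fun s v hv => by
        show c₀ • ((g : Matrix ι ι F) *ᵥ ((s • v : R.V₀) : ι → F)) ∈ R.V₀
        rw [R.coe_smul, mulVec_smul, smul_comm, ← Subfield.smul_def]; exact R.V₀.smul_mem s hv }
  have hS : S = ⊤ := span_singular R.nondeg (by omega) S fun v hv => by
    rcases eq_or_ne v 0 with rfl | hv0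
    · exact S.zero_mem
    by_cases huv : polar R.Q₀ u₀ v = 0
    · obtain ⟨w, hw, huw, hvw⟩ := exists_common_partner R.nondeg (by omega) hu₀ hv0 hq₀ hv
      exact near w v hv (by rw [polar_comm]; exact hvw) (near u₀ w hw huw hc₀v)
    · exact near u₀ v hv huv hc₀v
  exact ⟨c₀, hc₀, fun v hv => (hS ▸ Submodule.mem_top : (⟨v, hv⟩ : R.V₀) ∈ S)⟩

/-- Maximality of the rational subgroup in dimension four. -/
theorem isMaximalIn_rational_four (P : GL ι F) (R : ORat σ f F₀) (hR : R.V₀ = ratPts F₀ P)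
    (hι : Fintype.card ι = 4) {θ m : F} (K : Fld σ θ m) (G : Subgroup (GL ι F))
    (hG : G = isoGrp f ⊓ Geo.specialLinear ι F)
    (hgen : ∀ M : Subgroup (GL ι F), (∀ v, f v v = 0 → UtIn R.herm M v) → G ≤ M) :
    Geo.IsMaximalIn G (Geo.subfieldSubgroup F₀ P ⊓ G) := by
  have := R.finiteDimensional
  have hd0 : finrank F₀ R.V₀ = Fintype.card ι := R.finrank_eq
  have hf := R.herm
  have hfix := R.fixed
  set Pm := (P : Matrix ι ι F)
  set Pi' := ((P⁻¹ : GL ι F) : Matrix ι ι F)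
  let cj : (ι → F) → (ι → F) := fun x => Pm *ᵥ fun i => σ ((Pi' *ᵥ x) i)
  have hmem : ∀ x, cj x = x ↔ x ∈ R.V₀ := fun x => by
    rw [hR]
    refine ⟨fun h i => (hfix _).1 ?_, fun h => ?_⟩
    · have h' := congrFun (congrArg (fun w => Pi' *ᵥ w) h) i
      simpa [cj, Pm, Pi', inv_mulVec_mulVec] using h'
    · simp only [cj]
      rw [show (fun i => σ ((Pi' *ᵥ x) i)) = Pi' *ᵥ x from funext fun i => (hfix _).2 (h i)]
      exact mulVec_inv_mulVec P x
  have hadd : ∀ x y, cj (x + y) = cj x + cj y := fun x y => by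
    simp only [cj, mulVec_add, Pi.add_apply, map_add]
    rw [← mulVec_add]; rfl
  have hsmul : ∀ (c : F) x, cj (c • x) = σ c • cj x := fun c x => by
    simp only [cj, mulVec_smul, Pi.smul_apply, smul_eq_mul, map_mul]
    rw [← mulVec_smul]; rfl
  have hinvol : ∀ x, cj (cj x) = x := fun x => by
    simp only [cj, Pm, Pi', inv_mulVec_mulVec, u_inv hf, mulVec_inv_mulVec]
  have C : Cj σ f cj := by
    refine ⟨hf, hadd, hsmul, hinvol, fun x y => ?_, R.two⟩
    obtain ⟨a, b, rfl⟩ := R.exists_decomp K.skew K.skew0 x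
    obtain ⟨a', b', rfl⟩ := R.exists_decomp K.skew K.skew0 y
    simp only [hadd, hsmul, (hmem _).2 (Subtype.mem _), K.skew, u_add_left hf, u_add_right hf, u_smul_left hf,
      u_smul_right hf, map_add, map_mul, map_neg, R.sigma_f]
  refine ⟨lt_of_le_not_ge inf_le_right fun h => ?_, fun M hM hMG => ?_⟩
  · obtain ⟨x, -, z, -, hx, hz, hxz, -⟩ :=
      exists_hyp R.nondeg (nondeg_restr_top R.nondeg) (by rw [finrank_top]; omega)
    have fxx : f (x : ι → F) (x : ι → F) = 0 := R.iso_of hx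
    have fzx : f (z : ι → F) (x : ι → F) = 1 := R.one_of (by rw [polar_comm]; exact hxz)
    obtain ⟨c, hc, hcv⟩ := (mem_subfieldSubgroup_iff F₀ P _).1
      (h (hG ▸ ⟨ut_mem_iso hf fxx K.skew, ut_mem_sl hf (x : ι → F) θ⟩ : ut hf (x : ι → F) θ ∈ G)).1
    rw [← hR] at hcv
    have h1 := R.f_mem ⟨_, hcv x x.2⟩ z
    simp only [ut_mulVec hf fxx, fxx, mul_zero, zero_smul, add_zero, u_smul_left hf, R.one_of hxz, mul_one] at h1
    have h2 := R.f_mem ⟨_, hcv z z.2⟩ z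
    simp only [ut_mulVec hf fxx, fzx, mul_one, u_smul_left hf, u_add_left hf, R.iso_of hz, R.one_of hxz,
      zero_add] at h2
    have h3 := F₀.div_mem h2 h1
    rw [mul_div_cancel_left₀ _ (inv_ne_zero hc), ← R.fixed, K.skew] at h3
    exact mul_ne_zero R.two K.skew0 (by linear_combination -h3)
  by_cases hMS : M ≤ Geo.subfieldSubgroup F₀ P
  · exact Or.inl (le_antisymm (le_inf hMS hMG) hM)
  refine Or.inr (le_antisymm hMG (hgen M ?_))
  have hMi : M ≤ isoGrp f := fun m hm => (hG ▸ hMG hm).1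
  have hOv : Ov f cj M := by
    refine ⟨hMi, fun g hgi hgs hg => hM ⟨(mem_subfieldSubgroup_iff F₀ P g).2 ⟨1, one_ne_zero, ?_⟩,
      hG ▸ ⟨hgi, hgs⟩⟩⟩
    intro v hv
    rw [← hR] at hv ⊢
    rw [inv_one, one_smul, ← hmem, hg, (hmem v).2 hv]
  have hOver : R.Over M := ⟨hMi, fun e d he hed =>
    ue_rat C hOv ((hmem _).2 e.2) ((hmem _).2 d.2) (R.iso_of he) (R.zero_of (by rw [polar_comm]; exact hed))⟩
  obtain ⟨g, hgM, hgS⟩ := SetLike.not_le_iff_exists.1 hMS
  obtain ⟨u, hu, hout⟩ : ∃ u : R.V₀, R.Q₀ u = 0 ∧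
      ∀ c : F, c ≠ 0 → c • ((g : Matrix ι ι F) *ᵥ (u : ι → F)) ∉ R.V₀ := by
    by_contra hc
    push Not at hc
    obtain ⟨c, hc0, hcv⟩ := stab_of_points_four (by omega) (hMi hgM) hc
    refine hgS ((mem_subfieldSubgroup_iff F₀ P _).2 ⟨c⁻¹, inv_ne_zero hc0, fun v hv => ?_⟩)
    rw [inv_inv, ← hR]
    exact hcv v (hR ▸ hv)
  have hu0 : u ≠ 0 := fun e => hout 1 one_ne_zero (by
    rw [e, ZeroMemClass.coe_zero, mulVec_zero, smul_zero]; exact R.V₀.zero_mem)
  have hu0' : (u : ι → F) ≠ 0 := fun e => hu0 (Subtype.ext e)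
  have hcu : cj (u : ι → F) = u := (hmem _).2 u.2
  have huu : f (u : ι → F) (u : ι → F) = 0 := R.iso_of hu
  have hirr : ∀ μ : F, cj ((g : Matrix ι ι F) *ᵥ (u : ι → F)) ≠ μ • ((g : Matrix ι ι F) *ᵥ (u : ι → F)) := by
    intro μ h
    obtain ⟨a, ha, ha'⟩ := rat_of_prop C K.skew K.skew0 h
    exact hout a ha ((hmem _).1 ha')
  obtain ⟨x, hx, hx0, hxx, l, hl, hl0, hmemut⟩ : Good C.herm cj M := by
    by_cases hts : ∃ a b, cj a = a ∧ cj b = b ∧ f a a = 0 ∧ f b b = 0 ∧ f a b = 0 ∧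
        ∀ r s : F, r • a + s • b = 0 → r = 0 ∧ s = 0
    · obtain ⟨a, b, ha, hb, haa, hbb, hab, hind⟩ := hts
      exact plus_good C hOv K hι ha hb haa hbb hab hind hgM hcu hu0' huu hirr
    refine minus_good C hOv K hι hgM hcu hu0' huu hts hirr fun Y hY => ?_
    obtain ⟨v, hv, huv⟩ := R.nondeg.exists_partner hu0 hu
    obtain ⟨⟨d, hd⟩, hdY⟩ := (R.nondeg.nondeg_hyperbolic_perp hu hv huv).exists_value
      (by have := R.nondeg.finrank_hyperbolic_perp hu hv huv; omega)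
      (⟨Y / 2, (hfix _).1 (by rw [map_div₀, hY, map_ofNat])⟩ : F₀)
    change R.Q₀ d = _ at hdY
    refine ⟨(d : ι → F), (hmem _).2 d.2,
      R.zero_of (by rw [polar_comm]; exact ((mem_perp_span_pair R.Q₀).1 hd).1), ?_⟩
    rw [← R.coe, polar_self', hdY, Subfield.coe_mul]
    show (2 : F) * (Y / 2) = Y
    rw [mul_div_cancel₀ _ R.two]
  let X : R.V₀ := ⟨x, (hmem x).1 hx⟩
  have hX : R.Q₀ X = 0 := by
    have h2 : ((polar R.Q₀ X X : F₀) : F) = 0 := (R.coe X X).trans hxx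
    rw [polar_self'] at h2
    exact (mul_eq_zero.1 (Subtype.ext h2 : (2 : F₀) * R.Q₀ X = 0)).resolve_left R.two₀
  exact utIn_all_four hOver (by omega) K.skew K.skew0 (x := X) (fun e => hx0 (congrArg Subtype.val e)) hX hl hl0
    hmemut

/-- The orthogonal subfield groups of `SU₄(q)`. -/
theorem orth_maximal {F : Type*} [Field F] [Fintype F] (q : ℕ) (hF : Fintype.card F = q ^ 2) (hodd : Odd q)
    (hq : 5 ≤ q) (F₀ : Subfield F) (P : GL (Fin 4) F) (hcard : Fintype.card F = Nat.card F₀ ^ 2)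
    (hP : Cfsg.Geo.IsFormRationalStructure (Cfsg.hermForm 4 F q) F₀ 1 P) :
    Cfsg.Geo.IsMaximalIn (Cfsg.GU 4 F q ⊓ Cfsg.Geo.specialLinear (Fin 4) F)
      (Cfsg.Geo.subfieldSubgroup F₀ P ⊓ (Cfsg.GU 4 F q ⊓ Cfsg.Geo.specialLinear (Fin 4) F)) := by
  classical
  obtain ⟨σ, hσ, hf⟩ := Cfsg.Agent.Symplectic.isUnitaryForm_hermForm (n := 4) hF
  have hq₀ : Nat.card F₀ = q := Nat.pow_left_injective two_ne_zero (hcard.symm.trans hF)
  have hfix : F₀ = Unitary.fixK hF := by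
    refine SetLike.coe_injective (Set.eq_of_subset_of_ncard_le (fun x hx => ?_) ?_ (Set.toFinite _))
    · rw [SetLike.mem_coe, Unitary.mem_fixK]
      letI := Fintype.ofFinite F₀
      have := FiniteField.pow_card (⟨x, hx⟩ : F₀)
      rw [← Nat.card_eq_fintype_card, hq₀] at this
      exact congrArg Subtype.val this
    · rw [← Nat.card_coe_set_eq, ← Nat.card_coe_set_eq]
      exact ((Unitary.card_fixK hF).le.trans hq₀.ge)
  have hchar : ringChar F ≠ 2 := fun h => by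
    have h1 := FiniteField.even_card_iff_char_two.1 h
    have h3 : Odd (Fintype.card F) := hF ▸ hodd.pow
    rw [Nat.odd_iff] at h3
    omega
  have h2 : (2 : F) ≠ 0 := Ring.two_ne_zero hchar
  have hfixσ : ∀ x, σ x = x ↔ x ∈ F₀ := fun x => by rw [hσ, hfix, Unitary.mem_fixK]
  obtain ⟨R, hR⟩ := Cfsg.Agent.H98.UnitaryOrth.exists_oRat (F₀ := F₀) hf h2 hfixσ P fun u hu v hv => by
    have := hP _ _ hu hv
    rwa [Cfsg.Agent.H98.SubfieldOrth.mul_inv_vec, Cfsg.Agent.H98.SubfieldOrth.mul_inv_vec, one_mul] at this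
  obtain ⟨θ, hθ0, hθ⟩ := exists_skew_ne_zero hf
  obtain ⟨m, hm0, hm1⟩ : ∃ m : F₀, m ≠ 0 ∧ m * m ≠ 1 := by
    letI := Fintype.ofFinite F₀
    have : 0 < (Finset.univ \ ({0, 1, -1} : Finset F₀)).card := by
      have h1 := Finset.le_card_sdiff ({0, 1, -1} : Finset F₀) Finset.univ
      have h3 : ({0, 1, -1} : Finset F₀).card ≤ 3 := Finset.card_le_three
      rw [Finset.card_univ, ← Nat.card_eq_fintype_card, hq₀] at h1
      omega
    obtain ⟨m, hm⟩ := Finset.card_pos.1 this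
    simp only [Finset.mem_sdiff, Finset.mem_insert, Finset.mem_singleton, not_or] at hm
    exact ⟨m, hm.2.1, fun h => (mul_self_eq_one_iff.1 h).elim hm.2.2.1 hm.2.2.2⟩
  have hdiv : Fintype.card F / 2 = (q - 1) * ((q + 1) / 2) := by
    obtain ⟨k, hk⟩ := hodd
    rw [hF, hk, show (2 * k + 1) ^ 2 = 2 * (2 * k * (k + 1)) + 1 by ring, show (2 * k + 1 + 1) / 2 = k + 1 by omega,
      show 2 * k + 1 - 1 = 2 * k by omega]
    omega
  have K : Fld σ θ (m : F) := by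
    refine ⟨hθ, hθ0, (hfixσ _).2 m.2, fun h => hm0 (Subtype.ext h), fun h => hm1 (Subtype.ext h), fun r hr => ?_,
      fun r hr => ?_, fun a b ha hb => ?_⟩
    · rcases eq_or_ne r 0 with rfl | hr0
      · exact ⟨0, by simp⟩
      rw [FiniteField.isSquare_iff hchar hr0, hdiv, pow_mul]
      have : r ^ (q - 1) = 1 := by
        refine mul_right_cancel₀ hr0 ?_
        rw [← pow_succ, show q - 1 + 1 = q by omega, ← hσ, hr, one_mul]
      rw [this, one_pow]
    · obtain ⟨s, hs⟩ := Unitary.exists_norm_eq hF (a := r) (by rw [← hσ, hr])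
      exact ⟨s, by rw [hσ]; exact hs⟩
    · have ha0 : a ≠ 0 := fun e => ha ⟨0, by simp [e]⟩
      have hb0 : b ≠ 0 := fun e => hb ⟨0, by simp [e]⟩
      rw [FiniteField.isSquare_iff hchar (mul_ne_zero ha0 hb0), mul_pow]
      rw [(FiniteField.pow_dichotomy hchar ha0).resolve_left fun h =>
        ha ((FiniteField.isSquare_iff hchar ha0).2 h),
        (FiniteField.pow_dichotomy hchar hb0).resolve_left fun h => hb ((FiniteField.isSquare_iff hchar hb0).2 h),
        neg_mul_neg, one_mul]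
  exact isMaximalIn_rational_four P R hR (Fintype.card_fin 4) K _ rfl fun M h =>
    Cfsg.Agent.Symplectic.su_le_of_ut hF le_rfl hσ hf h

end Cfsg.Agent.H12.SUFour.Orth
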