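import Cfsg.Agent.H12.SUFour.Orth.Lemmas

/-!
The rational structure without totally singular rational planes: a moved point yields a rational transvection.
-/

set_option autoImplicit false

namespace Cfsg.Agent.H12.SUFour.Orth

open scoped MatrixGroups Matrix
open Matrix Cfsg.Agent.H95 Cfsg.Agent.Symplectic
open Cfsg.Agent.H98.UnitaryOrth (UE)

variable {ι : Type} [Fintype ι] [DecidableEq ι] {F : Type*} [Field F]
  {σ : F ≃+* F} {f : (ι → F) → (ι → F) → F} {cj : (ι → F) → ι → F} {M : Subgroup (GL ι F)}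

variable (C : Cj σ f cj) (hM : Ov f cj M) {θ m : F} (K : Fld σ θ m)
include C hM K

/-- The identity obtained from a rational isotropic vector orthogonal to the moved point. -/
theorem minusA_eq (hG : ¬Good C.herm cj M) {p c x : ι → F} {t : F} (hpp : f p p = 0) (hν : f p (cj p) ≠ 0)
    (hk : UE C.herm M p c t) (hcq : f c (cj p) = 0) (hx : cj x = x) (hx0 : x ≠ 0) (hxx : f x x = 0) (hxp : f x p = 0)
    (hα : f x c ≠ 0) (ht : σ t = t) :
    t * (f x c * σ (f x c)) * (f p (cj p) * σ (f p (cj p))) =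
      σ (f p (cj p)) * σ (f x c) ^ 2 + f x c ^ 2 * f p (cj p) := by
  have hf := C.herm
  set ν := f p (cj p) with hνd
  set α := f x c with hαd
  set k := ue hf p c t with hkd
  have hcp : f c p = 0 := hk.1.2.1
  have hpc : f p c = 0 := u_symm_zero hf hcp
  have hpx : f p x = 0 := u_symm_zero hf hxp
  have hcx : f c x = σ α := (u_conj hf x c).symm
  have hxq : f x (cj p) = 0 := by rw [C.swap, hx, hpx]
  have hkx : (k : Matrix ι ι F) *ᵥ x = x - α • p := by
    rw [hkd, ue_mulVec hf hk.1, hxp, ← hαd]; module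
  have hckx : cj (x - α • p) = x - σ α • cj p := by rw [C.sub, C.smul, hx]
  have hν2 : f (x - α • p) (cj (x - α • p)) = α ^ 2 * ν := by
    rw [hckx]
    simp only [u_sub_left hf, u_sub_right hf, u_smul_left hf, u_smul_right hf, hxx, hpx, hxq, u_inv hf, ← hνd]
    ring
  have hν20 : α ^ 2 * ν ≠ 0 := mul_ne_zero (pow_ne_zero 2 hα) hν
  have hqp : f (cj p) p = σ ν := (u_conj hf p (cj p)).symm
  have hqq : f (cj p) (cj p) = 0 := by rw [C.form, hpp, map_zero]
  have hqc : f (cj p) c = 0 := u_symm_zero hf hcq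
  have hqx : f (cj p) x = 0 := u_symm_zero hf hxq
  have key : ∀ d, cj d = d → f d x = 0 → f d c = 0 →
      σ ((-α * f d (cj p) + f d p * σ α - α * t * ν * f d p) / (α ^ 2 * ν)) =
        (-α * f d (cj p) + f d p * σ α - α * t * ν * f d p) / (α ^ 2 * ν) := by
    intro d hd hdx hdc
    have h := (good_or_real C hM hk.2 hx hd hx0 hxx hdx (by rw [← hkd, hkx, hν2]; exact hν20)).resolve_left hG
    rw [← hkd, hkx, hν2] at h
    have e : f ((k : Matrix ι ι F) *ᵥ d) (cj (x - α • p)) =
        -α * f d (cj p) + f d p * σ α - α * t * ν * f d p := by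
      rw [hkd, ue_mulVec hf hk.1, hckx]
      simp only [u_add_left hf, u_sub_right hf, u_smul_left hf, u_smul_right hf, u_inv hf, hdx, hdc, hcx, hpx, hcq,
        ← hνd]
      ring
    rwa [e] at h
  have h1 := key (p + cj p) (C.re_rat p) (by rw [u_add_left hf, hpx, hqx, add_zero])
    (by rw [u_add_left hf, hpc, hqc, add_zero])
  have h2 := key (θ • (p - cj p)) (C.im_rat K.skew p) (by rw [u_smul_left hf, u_sub_left hf, hpx, hqx]; ring)
    (by rw [u_smul_left hf, u_sub_left hf, hpc, hqc]; ring)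
  simp only [u_smul_left hf, u_add_left hf, u_sub_left hf, hpp, hqp, hqq, ← hνd, add_zero, zero_add, sub_zero,
    zero_sub] at h1 h2
  have hσα : σ α ≠ 0 := (map_ne_zero_iff σ σ.injective).2 hα
  have hσν : σ ν ≠ 0 := (map_ne_zero_iff σ σ.injective).2 hν
  simp only [map_div₀, map_mul, map_add, map_sub, map_neg, map_pow, u_inv hf, ht, K.skew] at h1 h2
  have hθ0 := K.skew0
  have h2' := C.two
  field_simp at h1 h2
  apply mul_left_cancel₀ (mul_ne_zero C.two (mul_ne_zero hσα hσν))
  linear_combination h1 - h2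

/-- The identity obtained from a rational isotropic vector in the span of the moved point and its conjugate. -/
theorem minusH_eq (hG : ¬Good C.herm cj M) (hno : ∀ z, f z z = 0 → f z (cj z) = 0 → ∃ μ : F, cj z = μ • z)
    {p c : ι → F} {t ζ κ : F} (hpp : f p p = 0) (hν : f p (cj p) ≠ 0) (hk : UE C.herm M p c t)
    (hcq : f c (cj p) = 0) (hζ : ζ ≠ 0) (hJ : σ (ζ * ζ * f p (cj p)) = -(ζ * ζ * f p (cj p))) (ht : σ t = t)
    (ht0 : t ≠ 0) (hκ : f c (cj c) = κ) {d : ι → F} (hd : cj d = d) (hdp : f d p = 0) {π E J : F}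
    (hπ : π = σ ζ * σ (f p (cj p))) (hE : E = π ^ 2 * κ + 2 * t * (π * σ π)) (hJd : J = π ^ 2 * f p (cj p)) :
    σ (f d c / π * (π * σ π * (E + σ E) + t * J * σ E - t ^ 3 * J * J)) =
      f d c / π * (π * σ π * (E + σ E) + t * J * σ E - t ^ 3 * J * J) := by
  have hf := C.herm
  set ν := f p (cj p) with hνd
  set k := ue hf p c t with hkd
  set q := cj p with hqd
  have hqp : f q p = σ ν := (u_conj hf p q).symm
  have hqq : f q q = 0 := by rw [hqd, C.form, hpp, map_zero]
  have hcp : f c p = 0 := hk.1.2.1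
  have hpc : f p c = 0 := u_symm_zero hf hcp
  have hqc : f q c = 0 := u_symm_zero hf hcq
  set x := ζ • p + σ ζ • q with hxd
  have hx : cj x = x := by rw [hxd, C.add, C.smul, C.smul, hqd, C.invol, u_inv hf, add_comm]
  have hσζ : σ ζ ≠ 0 := (map_ne_zero_iff σ σ.injective).2 hζ
  have hσν : σ ν ≠ 0 := (map_ne_zero_iff σ σ.injective).2 hν
  have hπ0 : π ≠ 0 := hπ ▸ mul_ne_zero hσζ hσν
  have hσπ : σ π = ζ * ν := by rw [hπ, map_mul, u_inv hf, u_inv hf]
  have hxp : f x p = π := by
    rw [hxd, u_add_left hf, u_smul_left hf, u_smul_left hf, hpp, hqp, hπ]; ring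
  have hx0 : x ≠ 0 := fun h => hπ0 (by rw [← hxp, h, u_zero_left hf])
  have hxq : f x q = σ π := by
    rw [hxd, u_add_left hf, u_smul_left hf, u_smul_left hf, hqq, ← hνd, hσπ]; ring
  have hxc : f x c = 0 := by
    rw [hxd, u_add_left hf, u_smul_left hf, u_smul_left hf, hpc, hqc]; ring
  have hxx : f x x = 0 := by
    simp only [hxd, u_add_left hf, u_add_right hf, u_smul_left hf, u_smul_right hf, hpp, hqq, hqp, ← hνd,
      u_inv hf]
    simp only [map_mul] at hJ
    linear_combination hJ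
  have hσJ : σ J = -J := by
    rw [hJd, map_mul, map_pow, hσπ, hπ]
    simp only [map_mul] at hJ
    linear_combination (σ ν * ν) * hJ
  have hkx : (k : Matrix ι ι F) *ᵥ x = x + π • c + (t * π) • p := by
    rw [hkd, ue_mulVec hf hk.1, hxp, hxc]; module
  have hckx : cj (x + π • c + (t * π) • p) = x + σ π • cj c + (t * σ π) • q := by
    rw [C.add, C.add, C.smul, C.smul, hx, map_mul, ht, hqd]
  have hxcc : f x (cj c) = 0 := by rw [C.swap, hx, u_symm_zero hf hxc]
  have hcx : f c x = 0 := u_symm_zero hf hxc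
  have hpx : f p x = σ π := by rw [← hxp, u_conj hf]
  have hpcc : f p (cj c) = 0 := by rw [C.swap]; exact hcq
  set D := π ^ 2 * κ + 2 * t * (π * σ π) + t ^ 2 * J with hD
  have hν2 : f (x + π • c + (t * π) • p) (cj (x + π • c + (t * π) • p)) = D := by
    rw [hckx, hD, hJd]
    simp only [u_add_left hf, u_add_right hf, u_smul_left hf, u_smul_right hf, hxx, hxq, hxcc, hcx, hcq, hκ, hpx,
      hpcc, ← hνd, map_mul, ht, u_inv hf]
    ring
  have hD0 : D ≠ 0 := by
    intro h0
    have hz : f (x + π • c + (t * π) • p) (x + π • c + (t * π) • p) = 0 := by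
      rw [← hkx, mem_isoGrp.1 (ue_mem_iso hf hk.1), hxx]
    obtain ⟨μ, hμ⟩ := hno _ hz (hν2.trans h0)
    rw [hckx] at hμ
    have h1 := congrArg (fun v => f v q) hμ
    have h2 := congrArg (fun v => f v p) hμ
    have hccq : f (cj c) q = 0 := by rw [hqd, C.form, hcp, map_zero]
    have hccp : f (cj c) p = 0 := by rw [C.form_left, ← hqd, hcq, map_zero]
    simp only [u_add_left hf, u_smul_left hf, hxp, hxq, hcp, hcq, hccq, hccp, hqq, hqp, hpp, ← hνd] at h1 h2
    simp only [hπ, map_mul, u_inv hf] at h1 h2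
    have h3 : t * (ζ * ζ * ν + σ ζ * σ ζ * σ ν) + t ^ 2 * (ζ * ν * (σ ζ * σ ν)) = 0 := by
      refine mul_left_cancel₀ (mul_ne_zero hν hσν) ?_
      linear_combination (ζ * ν + t * σ ζ * σ ν * ν) * h2 - (σ ζ * σ ν) * h1
    simp only [map_mul] at hJ
    rw [show σ ζ * σ ζ * σ ν = -(ζ * ζ * ν) by linear_combination hJ] at h3
    exact mul_ne_zero (pow_ne_zero 2 ht0) (mul_ne_zero (mul_ne_zero hζ hν) (mul_ne_zero hσζ hσν))
      (by linear_combination h3)
  have hdx : f d x = 0 := by
    have hdq : f d q = 0 := by rw [hqd, C.swap, hd, u_symm_zero hf hdp]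
    rw [hxd, u_add_right hf, u_smul_right hf, u_smul_right hf, hdp, hdq]; ring
  have h := (good_or_real C hM hk.2 hx hd hx0 hxx hdx (by rw [← hkd, hkx, hν2]; exact hD0)).resolve_left hG
  rw [← hkd, hkx, hν2] at h
  set φ := f d c with hφ
  have hkd' : (k : Matrix ι ι F) *ᵥ d = d - φ • p := by
    rw [hkd, ue_mulVec hf hk.1, hdp, ← hφ]; module
  have hn : f ((k : Matrix ι ι F) *ᵥ d) (cj (x + π • c + (t * π) • p)) =
      π * σ φ - φ * (σ π + t * π * ν) := by
    rw [hkd', hckx]
    have hdcc : f d (cj c) = σ φ := by rw [C.swap, hd, ← u_conj hf d c, ← hφ]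
    have hdq : f d q = 0 := by rw [hqd, C.swap, hd, u_symm_zero hf hdp]
    simp only [u_add_right hf, u_sub_left hf, u_smul_left hf, u_smul_right hf, map_mul, ht, u_inv hf, hdx, hdcc,
      hdq, hpx, hpcc, ← hνd]
    ring
  rw [hn, map_div₀] at h
  have hσD : σ D ≠ 0 := (map_ne_zero_iff σ σ.injective).2 hD0
  rw [div_eq_div_iff hσD hD0] at h
  set A := σ π + t * π * ν with hA
  have hPi : π * σ π * (E + σ E) + t * J * σ E - t ^ 3 * J * J = π * (A * σ D + σ π * D) := by
    have e : σ D = σ E - t ^ 2 * J := by rw [hD, ← hE, map_add, map_mul, map_pow, ht, hσJ]; ring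
    rw [e, hA, hD, hE, hJd]
    ring
  rw [hPi, ← mul_assoc, div_mul_cancel₀ _ hπ0]
  simp only [map_mul, map_sub, map_add, u_inv hf] at h ⊢
  linear_combination -h

/-- The conjugate of a vector orthogonal to the moved point has the norm of the vector. -/
theorem minusH_norm (hG : ¬Good C.herm cj M) (hno : ∀ z, f z z = 0 → f z (cj z) = 0 → ∃ μ : F, cj z = μ • z)
    {p c : ι → F} {ζ : F} (hpp : f p p = 0) (hν : f p (cj p) ≠ 0) (hcq : f c (cj p) = 0)
    (hk : UE C.herm M p c (-f c c / 2)) (hk' : UE C.herm M p (m • c) (-f (m • c) (m • c) / 2))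
    (hq0 : f c c ≠ 0) (hζ : ζ ≠ 0) (hJ : σ (ζ * ζ * f p (cj p)) = -(ζ * ζ * f p (cj p))) :
    f c (cj c) * σ (f c (cj c)) = f c c * f c c := by
  have hf := C.herm
  have h2 := C.two
  have hcp : f c p = 0 := hk.1.2.1
  set ν := f p (cj p) with hνd
  set π := σ ζ * σ ν with hπ
  set J := π ^ 2 * ν with hJd
  set t := -f c c / 2 with htd
  have hreal : ∀ w, σ (-f w w / 2) = -f w w / 2 := fun w => by rw [map_div₀, map_neg, u_conj hf, map_ofNat]
  have ht : σ t = t := hreal c
  have ht0 : t ≠ 0 := div_ne_zero (neg_ne_zero.2 hq0) h2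
  set E := π ^ 2 * f c (cj c) + 2 * t * (π * σ π) with hE
  have hπ0 : π ≠ 0 := mul_ne_zero ((map_ne_zero_iff σ σ.injective).2 hζ) ((map_ne_zero_iff σ σ.injective).2 hν)
  have hJ0 : J ≠ 0 := mul_ne_zero (pow_ne_zero 2 hπ0) hν
  have hσJ : σ J = -J := by
    simp only [hJd, hπ, map_mul, map_pow, u_inv hf]
    simp only [map_mul] at hJ
    linear_combination (σ ν * ν) * hJ
  by_contra hne
  have hdp : f (c + cj c) p = 0 ∧ f (θ • (c - cj c)) p = 0 := by
    have : f (cj c) p = 0 := by rw [C.form_left, hcq, map_zero]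
    constructor
    · rw [u_add_left hf, hcp, this, add_zero]
    · rw [u_smul_left hf, u_sub_left hf, hcp, this]; ring
  have hccc : f (cj c) c = σ (f c (cj c)) := (u_conj hf c (cj c)).symm
  -- both coefficients vanish
  have hz : ∀ (a : F), σ a = a → a ≠ 0 → UE C.herm M p (a • c) (-f (a • c) (a • c) / 2) →
      π * σ π * (a * a * E + σ (a * a * E)) + (a * a * t) * J * σ (a * a * E) - (a * a * t) ^ 3 * J * J = 0 := by
    intro a ha ha0 hka
    set R := π * σ π * (a * a * E + σ (a * a * E)) + (a * a * t) * J * σ (a * a * E) - (a * a * t) ^ 3 * J * J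
    have hta : -f (a • c) (a • c) / 2 = a * a * t := by
      rw [u_smul_left hf, u_smul_right hf, ha, htd]; ring
    rw [hta] at hka
    have hκa : f (a • c) (cj (a • c)) = a * a * f c (cj c) := by
      rw [C.smul, u_smul_left hf, u_smul_right hf, u_inv hf]; ring
    have hA : ∀ d, cj d = d → f d p = 0 → σ (f d c * (a / π * R)) = f d c * (a / π * R) := by
      intro d hd hd'
      have h := minusH_eq C hM K hG hno hpp hν hka (by rw [u_smul_left hf, hcq, mul_zero]) hζ hJ
        (by rw [map_mul, map_mul, ha, ht]) (mul_ne_zero (mul_ne_zero ha0 ha0) ht0) hκa hd hd' (π := π)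
        (E := a * a * E) (J := J) hπ (by rw [hE]; ring) hJd
      rw [u_smul_right hf, ha] at h
      simpa only [show f d c * (a / π * R) = a * f d c / π * R by ring] using h
    have h1 := hA _ (C.re_rat c) hdp.1
    have h3 := hA _ (C.im_rat K.skew c) hdp.2
    simp only [u_smul_left hf, u_add_left hf, u_sub_left hf, hccc, map_mul, map_add, map_sub, u_conj hf c c, u_inv hf,
      K.skew] at h1 h3
    by_contra hR
    have hs : a / π * R ≠ 0 := mul_ne_zero (div_ne_zero ha0 hπ0) hR
    have key : (a / π * R) * (θ * (2 * (f c c * f c c - f c (cj c) * σ (f c (cj c))))) * σ (a / π * R) = 0 := by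
      simp only [map_mul]
      linear_combination (-(σ (a / π) * σ R)) * (θ * (f c c - f c (cj c)) * h1 + (f c c + f c (cj c)) * h3)
    simp only [mul_eq_zero, hs, K.skew0, h2, (map_ne_zero_iff σ σ.injective).2 hs, false_or, or_false,
      sub_eq_zero] at key
    exact hne key.symm
  have e1 := hz 1 (map_one σ) one_ne_zero (by rwa [one_smul])
  have e2 := hz m K.real K.real0 hk'
  simp only [one_mul] at e1
  have e3 := congrArg σ e1
  simp only [map_mul, map_add, map_sub, map_pow, map_zero, hσJ, ht, u_inv hf] at e3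
  have hee : E + σ E = 0 := by
    refine mul_left_cancel₀ (mul_ne_zero ht0 hJ0) ?_
    linear_combination e1 - e3
  have hσE : σ E = t ^ 2 * J := by
    refine mul_left_cancel₀ (mul_ne_zero ht0 hJ0) ?_
    linear_combination e1 - π * σ π * hee
  simp only [map_mul, K.real] at e2
  have : (1 - m * m) * ((m * m) ^ 2 * (t * J * (t ^ 2 * J))) = 0 := by
    linear_combination e2 - π * σ π * (m * m) * hee - (m * m) ^ 2 * (t * J) * hσE
  simp only [mul_eq_zero, sub_eq_zero, K.real1.symm, pow_eq_zero_iff, ne_eq, OfNat.ofNat_ne_zero, not_false_eq_true,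
    K.real0, ht0, hJ0, or_self] at this

/-- A point moved off the rational structure gives a rational transvection. -/
theorem minus_good (hι : Fintype.card ι = 4) {g : GL ι F} (hg : g ∈ M) {u : ι → F} (hu : cj u = u) (hu0 : u ≠ 0)
    (huu : f u u = 0)
    (hts : ¬∃ a b, cj a = a ∧ cj b = b ∧ f a a = 0 ∧ f b b = 0 ∧ f a b = 0 ∧
      ∀ r s : F, r • a + s • b = 0 → r = 0 ∧ s = 0)
    (hirr : ∀ μ : F, cj ((g : Matrix ι ι F) *ᵥ u) ≠ μ • ((g : Matrix ι ι F) *ᵥ u))
    (hval : ∀ Y : F, σ Y = Y → ∃ d, cj d = d ∧ f d u = 0 ∧ f d d = Y) :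
    Good C.herm cj M := by
  have hf := C.herm
  by_contra hG
  have h2 := C.two
  have hθ := K.skew
  have hθ0 := K.skew0
  have hgi := mem_isoGrp.1 (hM.le hg)
  have hno : ∀ z, f z z = 0 → f z (cj z) = 0 → ∃ μ : F, cj z = μ • z := by
    intro z hz hz'
    by_contra hc
    push Not at hc
    have hz'' : f (cj z) z = 0 := u_symm_zero hf hz'
    refine hts ⟨_, _, C.re_rat z, C.im_rat hθ z, ?_, ?_, ?_, fun r s h => ?_⟩
    · simp only [u_add_left hf, u_add_right hf, C.form, hz, hz', hz'', map_zero, add_zero]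
    · simp only [u_smul_left hf, u_smul_right hf, u_sub_left hf, u_sub_right hf, C.form, hz, hz', hz'', map_zero,
        sub_zero, mul_zero]
    · simp only [u_smul_right hf, u_add_left hf, u_sub_right hf, C.form, hz, hz', hz'', map_zero, sub_zero,
        add_zero, mul_zero]
    have h' : (r + s * θ) • z + (r - s * θ) • cj z = 0 := by rw [← h]; module
    have e1 : r - s * θ = 0 := by
      by_contra e
      refine hc (-((r + s * θ) / (r - s * θ))) ?_
      have h'' := congrArg (fun v => (r - s * θ)⁻¹ • v) h'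
      simp only [smul_add, smul_smul, inv_mul_cancel₀ e, one_smul, smul_zero] at h''
      rw [eq_neg_of_add_eq_zero_right h'', ← neg_smul, div_eq_inv_mul]
    rw [e1, zero_smul, add_zero, smul_eq_zero] at h'
    have e2 : r + s * θ = 0 := h'.resolve_right fun e => hc 0 (by rw [e, C.zero, zero_smul])
    have hr : r = 0 := by
      have : (2 : F) * r = 0 := by linear_combination e1 + e2
      exact (mul_eq_zero.1 this).resolve_left h2
    exact ⟨hr, (mul_eq_zero.1 (by linear_combination e2 - hr : s * θ = 0)).resolve_right hθ0⟩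
  set p := (g : Matrix ι ι F) *ᵥ u with hp
  have hpp : f p p = 0 := by rw [hp, hgi, huu]
  have hν : f p (cj p) ≠ 0 := fun h0 => by
    obtain ⟨μ, hμ⟩ := hno p hpp h0
    exact hirr μ hμ
  set ν := f p (cj p) with hνd
  have hσν : σ ν ≠ 0 := (map_ne_zero_iff σ σ.injective).2 hν
  have hqp : f (cj p) p = σ ν := (u_conj hf p (cj p)).symm
  have hqq : f (cj p) (cj p) = 0 := by rw [C.form, hpp, map_zero]
  -- a vector of the orthogonal space with zero norm is zero
  have hK : ∀ c w, f c p = 0 → f c (cj p) = 0 → f c c ≠ 0 → f w p = 0 → f w (cj p) = 0 → f w c = 0 → f w w = 0 →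
      w = 0 := by
    intro c w hcp hcq hcc hwp hwq hwc hww
    by_contra hw
    refine hw (eq_zero_of_four hf hι (a := p) (b := cj p) (c := c) (d := w) (fun r s t e h => ?_) hwp hwq hwc hww)
    have hs : s = 0 := by
      have := congrArg (fun v => f v p) h
      simpa [u_add_left hf, u_smul_left hf, hpp, hqp, hcp, hwp, u_zero_left hf, hσν] using this
    have hr : r = 0 := by
      have := congrArg (fun v => f v (cj p)) h
      simpa [u_add_left hf, u_smul_left hf, ← hνd, hqq, hcq, hwq, u_zero_left hf, hν] using this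
    subst hr hs
    have ht : t = 0 := by
      have := congrArg (fun v => f v c) h
      simpa [u_add_left hf, u_smul_left hf, hwc, u_zero_left hf, hcc] using this
    subst ht
    simp [hw] at h
    exact ⟨rfl, rfl, rfl, h⟩
  -- the projections of the images of the rational orthogonal vectors
  set cv : (ι → F) → (ι → F) := fun d =>
    (g : Matrix ι ι F) *ᵥ d - (f ((g : Matrix ι ι F) *ᵥ d) (cj p) / ν) • p with hcv
  have hcvp : ∀ d, f d u = 0 → f (cv d) p = 0 := fun d hd => by
    simp only [hcv, u_sub_left hf, u_smul_left hf, hpp, hp, hgi, hd, huu]; ring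
  have hcvq : ∀ d, f (cv d) (cj p) = 0 := fun d => by
    simp only [hcv, u_sub_left hf, u_smul_left hf, ← hνd, div_mul_cancel₀ _ hν, sub_self]
  have hcvf : ∀ d d', f d u = 0 → f d' u = 0 → f (cv d) (cv d') = f d d' := fun d d' hd hd' => by
    have hd'' : f u d' = 0 := u_symm_zero hf hd'
    simp only [hcv, u_sub_left hf, u_sub_right hf, u_smul_left hf, u_smul_right hf, hpp, hp, hgi, hd, hd'', huu]
    ring
  have hcvk : ∀ d, cj d = d → f d u = 0 → UE C.herm M p (cv d) (-f (cv d) (cv d) / 2) := by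
    intro d hd hdu
    rw [hcvf d d hdu hdu]
    have h1 := (ue_rat C hM hu hd huu hdu).conj hg (hM.le hg)
    rw [← hp] at h1
    set lam := f ((g : Matrix ι ι F) *ᵥ d) (cj p) / ν
    have hl : σ lam = lam := (good_or_real C hM hg hu hd hu0 huu hdu hν).resolve_left hG
    have hok : EichOK hf p (-lam • p) 0 :=
      ⟨hpp, by rw [u_smul_left hf, hpp, mul_zero], by rw [u_smul_left hf, u_smul_right hf, hpp]; simp⟩
    have he : ue hf p (-lam • p) 0 = 1 := by
      refine gl_ext fun x => ?_
      rw [ue_mulVec hf hok, u_smul_right hf, map_neg, hl]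
      simp only [Units.val_one, one_mulVec]
      module
    have h2' : UE C.herm M p (-lam • p) 0 := ⟨hok, by rw [he]; exact M.one_mem⟩
    refine (h1.mul h2').congr rfl (by simp only [hcv]; module) ?_
    rw [u_smul_left hf, u_symm_zero hf h1.1.2.1]
    ring
  have hcvm : ∀ d, cv (m • d) = m • cv d := fun d => by
    simp only [hcv, mulVec_smul, u_smul_left hf, smul_sub, smul_smul, mul_div_assoc]
  have hrm : ∀ d, cj d = d → f d u = 0 → cj (m • d) = m • d ∧ f (m • d) u = 0 := fun d hd hdu =>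
    ⟨by rw [C.smul, hd, K.real], by rw [u_smul_left hf, hdu, mul_zero]⟩
  obtain ⟨d₁, hd₁, hd₁u, hd₁1⟩ := hval 1 (map_one σ)
  by_cases hsq : IsSquare (θ * ν)
  swap
  · -- a rational isotropic vector orthogonal to p
    set c := cv d₁
    have hcp : f c p = 0 := hcvp _ hd₁u
    have hcq : f c (cj p) = 0 := hcvq _
    have hcc : f c c = 1 := by rw [hcvf _ _ hd₁u hd₁u, hd₁1]
    obtain ⟨c', hc'0, hc'p, hc'q, hc'c⟩ := exists_perp_three hf hι p (cj p) c
    have hc'cc : f c c' = 0 := u_symm_zero hf hc'c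
    obtain ⟨s, hs⟩ := K.norm (-f c' c') (by rw [map_neg, u_conj hf])
    set y := c' + s • c with hyd
    have hyy : f y y = 0 := by
      simp only [hyd, u_add_left hf, u_add_right hf, u_smul_left hf, u_smul_right hf, hcc, hc'c, hc'cc]
      linear_combination hs
    have hy0 : y ≠ 0 := by
      intro h
      have := congrArg (fun v => f v c) h
      simp only [hyd, u_add_left hf, u_smul_left hf, hcc, hc'c, u_zero_left hf, zero_add, mul_one] at this
      rw [hyd, this, zero_smul, add_zero] at h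
      exact hc'0 h
    have hyp : f y p = 0 := by rw [hyd, u_add_left hf, u_smul_left hf, hc'p, hcp]; ring
    have hyq : f y (cj p) = 0 := by rw [hyd, u_add_left hf, u_smul_left hf, hc'q, hcq]; ring
    obtain ⟨x, hx, hx0, hxx, hxp⟩ : ∃ x, cj x = x ∧ x ≠ 0 ∧ f x x = 0 ∧ f x p = 0 := by
      by_cases hG0 : f y (cj y) = 0
      · obtain ⟨μ, hμ⟩ := hno y hyy hG0
        obtain ⟨a, ha, hay⟩ := rat_of_prop C hθ hθ0 hμ
        exact ⟨a • y, hay, smul_ne_zero ha hy0, by rw [u_smul_left hf, u_smul_right hf, hyy, mul_zero, mul_zero],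
          by rw [u_smul_left hf, hyp, mul_zero]⟩
      set G := f y (cj y) with hGd
      have hpy : f p y = 0 := u_symm_zero hf hyp
      have hpcy : f p (cj y) = 0 := by rw [C.swap, hyq]
      have hns : ¬IsSquare (-ν / G) := by
        rintro ⟨r, hr⟩
        have hrG : ν + r * r * G = 0 := by rw [← hr, div_mul_cancel₀ _ hG0]; ring
        have hz : f (p + r • y) (p + r • y) = 0 := by
          simp only [u_add_left hf, u_add_right hf, u_smul_left hf, u_smul_right hf, hpp, hyy, hyp, hpy]; ring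
        have hz' : f (p + r • y) (cj (p + r • y)) = 0 := by
          simp only [C.add, C.smul, u_add_left hf, u_add_right hf, u_smul_left hf, u_smul_right hf, u_inv hf,
            hyq, hpcy, ← hνd, ← hGd]
          linear_combination hrG
        obtain ⟨μ, hμ⟩ := hno _ hz hz'
        have := congrArg (fun v => f v p) hμ
        simp only [C.add, C.smul, u_add_left hf, u_smul_left hf, hqp, C.form_left y p, hyq, hyp, hpp, map_zero,
          mul_zero, add_zero] at this
        exact hσν this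
      obtain ⟨r, hr⟩ := K.mul _ _ hsq hns
      have hr2 : (r / ν) * (r / ν) * G = -θ := by
        rw [div_mul_div_comm, ← hr]; field_simp
      set ζ := r / ν
      have hζ0 : ζ ≠ 0 := fun e => by rw [e, zero_mul, zero_mul, eq_comm, neg_eq_zero] at hr2; exact hθ0 hr2
      have hxy : f (ζ • y + σ ζ • cj y) y = σ ζ * σ G := by
        rw [u_add_left hf, u_smul_left hf, u_smul_left hf, hyy, (u_conj hf y (cj y)).symm, ← hGd]; ring
      refine ⟨ζ • y + σ ζ • cj y, ?_, fun h => ?_, ?_, ?_⟩
      · rw [C.add, C.smul, C.smul, C.invol, u_inv hf, add_comm]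
      · rw [h, u_zero_left hf] at hxy
        exact mul_ne_zero ((map_ne_zero_iff σ σ.injective).2 hζ0) ((map_ne_zero_iff σ σ.injective).2 hG0) hxy.symm
      · simp only [u_add_left hf, u_add_right hf, u_smul_left hf, u_smul_right hf, C.form, hyy, map_zero,
          ← u_conj hf y (cj y), ← hGd, u_inv hf]
        have := congrArg σ hr2
        simp only [map_mul, map_neg, hθ] at this
        linear_combination hr2 + this
      · rw [u_add_left hf, u_smul_left hf, u_smul_left hf, hyp, C.form_left, hyq, map_zero]; ring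
    have hα : f x c ≠ 0 := fun h0 => hx0 (hK c x hcp hcq (by rw [hcc]; exact one_ne_zero) hxp
      (by rw [C.swap, hx, u_symm_zero hf hxp]) h0 hxx)
    have hk := hcvk d₁ hd₁ hd₁u
    have hk' := hcvk (m • d₁) (hrm _ hd₁ hd₁u).1 (hrm _ hd₁ hd₁u).2
    rw [hcvm] at hk'
    have hreal : ∀ w, σ (-f w w / 2) = -f w w / 2 := fun w => by rw [map_div₀, map_neg, u_conj hf, map_ofNat]
    have e1 := minusA_eq C hM K hG hpp hν hk hcq hx hx0 hxx hxp hα (hreal _)
    have e2 := minusA_eq C hM K hG hpp hν hk' (by rw [u_smul_left hf, hcq, mul_zero]) hx hx0 hxx hxp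
      (by rw [u_smul_right hf, K.real]; exact mul_ne_zero K.real0 hα) (hreal _)
    rw [hcc] at e1
    simp only [u_smul_left hf, u_smul_right hf, K.real, map_mul, show f (cv d₁) (cv d₁) = 1 from hcc,
      ← hνd] at e1 e2
    have hσα : σ (f x c) ≠ 0 := (map_ne_zero_iff σ σ.injective).2 hα
    have : (m * m - 1) * (m * m) * (-1 / 2) * (f x c * σ (f x c)) * (ν * σ ν) = 0 := by
      linear_combination e2 - m * m * e1
    simp only [mul_eq_zero, sub_eq_zero, K.real1, K.real0, hν, hσν, hα, hσα, div_eq_zero_iff, neg_eq_zero,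
      one_ne_zero, h2, or_self] at this
  obtain ⟨s, hs⟩ := hsq
  have hs0 : s ≠ 0 := fun e => mul_ne_zero hθ0 hν (by rw [hs, e, zero_mul])
  have hζ : θ / s * (θ / s) * ν = θ := by rw [div_mul_div_comm, ← hs]; field_simp
  have hζJ : σ (θ / s * (θ / s) * ν) = -(θ / s * (θ / s) * ν) := by rw [hζ, hθ]
  have hζ0 : θ / s ≠ 0 := div_ne_zero hθ0 hs0
  -- conjugation is a multiplication on the projections
  have hprop : ∀ d, cj d = d → f d u = 0 → f d d ≠ 0 →
      ∃ ρ : F, cj (cv d) = ρ • cv d ∧ ρ * σ ρ = 1 := by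
    intro d hd hdu hdd
    set c := cv d
    have hcc : f c c = f d d := hcvf _ _ hdu hdu
    have hq0 : f c c ≠ 0 := hcc ▸ hdd
    have hk' := hcvk (m • d) (hrm _ hd hdu).1 (hrm _ hd hdu).2
    rw [hcvm] at hk'
    have hn := minusH_norm C hM K hG hno hpp hν (hcvq d) (hcvk d hd hdu) hk' hq0 hζ0 hζJ
    set ρ := σ (f c (cj c)) / f c c with hρd
    have hρ : ρ * σ ρ = 1 := by
      rw [hρd, map_div₀, u_inv hf, u_conj hf c c, div_mul_div_comm, mul_comm, hn, div_self (mul_ne_zero hq0 hq0)]
    refine ⟨ρ, sub_eq_zero.1 (hK c _ (hcvp d hdu) (hcvq d) hq0 ?_ ?_ ?_ ?_), hρ⟩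
    · rw [u_sub_left hf, u_smul_left hf, C.form_left, hcvq d, hcvp d hdu, map_zero]; ring
    · rw [u_sub_left hf, u_smul_left hf, C.form, hcvq d, hcvp d hdu, map_zero]; ring
    · rw [u_sub_left hf, u_smul_left hf, ← u_conj hf c (cj c), hρd, div_mul_cancel₀ _ hq0, sub_self]
    · simp only [u_sub_left hf, u_sub_right hf, u_smul_left hf, u_smul_right hf, C.form, u_conj hf c c,
        ← u_conj hf c (cj c), hρd, map_div₀, u_inv hf]
      field_simp
      linear_combination -hn
  obtain ⟨ρ, hρc, hρ1⟩ := hprop d₁ hd₁ hd₁u (by rw [hd₁1]; exact one_ne_zero)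
  -- the multiplier is the same for all
  have hsame : ∀ d, cj d = d → f d u = 0 → f d d ≠ 0 → cj (cv d) = ρ • cv d := by
    have near : ∀ d d' r r', cj d = d → cj d' = d' → f d u = 0 → f d' u = 0 → f d d' ≠ 0 →
        cj (cv d) = r • cv d → cj (cv d') = r' • cv d' → r' * σ r' = 1 → r = r' := by
      intro d d' r r' hd hd' hdu hdu' hne e e' hr'
      have h := C.form (cv d) (cv d')
      rw [e, e', u_smul_left hf, u_smul_right hf, hcvf _ _ hdu hdu', C.rat hd hd', ← mul_assoc] at h
      have h1 : r * σ r' = 1 := mul_right_cancel₀ hne (by rw [one_mul]; exact h)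
      calc r = r * (r' * σ r') := by rw [hr', mul_one]
        _ = r' * (r * σ r') := by ring
        _ = r' := by rw [h1, mul_one]
    intro d hd hdu hdd
    obtain ⟨r, hr, hr1⟩ := hprop d hd hdu hdd
    suffices r = ρ by rwa [this] at hr
    by_cases hne : f d d₁ = 0
    swap
    · exact near d d₁ r ρ hd hd₁ hdu hd₁u hne hr hρc hρ1
    have hne' : f d₁ d = 0 := u_symm_zero hf hne
    obtain ⟨a, ha, ha0, hae⟩ : ∃ a, σ a = a ∧ a ≠ 0 ∧ f d d + a * a ≠ 0 := by
      by_cases h1 : f d d + 1 = 0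
      · refine ⟨m, K.real, K.real0, fun h => K.real1 ?_⟩
        linear_combination h - h1
      · exact ⟨1, map_one σ, one_ne_zero, by rwa [one_mul]⟩
    set e := d + a • d₁ with hed
    have he : cj e = e := by rw [hed, C.add, C.smul, hd, hd₁, ha]
    have heu : f e u = 0 := by rw [hed, u_add_left hf, u_smul_left hf, hdu, hd₁u]; ring
    have hee : f e e ≠ 0 := by
      simp only [hed, u_add_left hf, u_add_right hf, u_smul_left hf, u_smul_right hf, hne, hne', hd₁1, ha]
      simpa using hae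
    obtain ⟨r', hr', hr'1⟩ := hprop e he heu hee
    have e1 := near d e r r' hd he hdu heu
      (by simpa [hed, u_add_right hf, u_smul_right hf, hne] using hdd) hr hr' hr'1
    have e2 := near d₁ e ρ r' hd₁ he hd₁u heu
      (by simpa [hed, u_add_right hf, u_smul_right hf, hne', hd₁1, ha] using ha0) hρc hr' hr'1
    rw [e1, e2]
  obtain ⟨φ₀, hφ0, hφ⟩ : ∃ φ₀, φ₀ ≠ 0 ∧ (φ₀ = 1 + ρ ∨ φ₀ = θ * (1 - ρ)) := by
    by_cases h : 1 + ρ = 0
    · exact ⟨θ * (1 - ρ), mul_ne_zero hθ0 fun e => h2 (by linear_combination h + e), Or.inr rfl⟩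
    · exact ⟨1 + ρ, h, Or.inl rfl⟩
  have hfinal : ∀ ζ : F, ζ ≠ 0 → σ (ζ * ζ * ν) = -(ζ * ζ * ν) →
      σ (φ₀ / (σ ζ * σ ν)) = φ₀ / (σ ζ * σ ν) := by
    intro ζ hζ' hJ
    set π := σ ζ * σ ν with hπ
    set J := π ^ 2 * ν with hJd
    have hπ0 : π ≠ 0 := mul_ne_zero ((map_ne_zero_iff σ σ.injective).2 hζ') hσν
    have hJ0 : J ≠ 0 := mul_ne_zero (pow_ne_zero 2 hπ0) hν
    have hσJ : σ J = -J := by
      simp only [hJd, hπ, map_mul, map_pow, u_inv hf]
      simp only [map_mul] at hJ
      linear_combination (σ ν * ν) * hJ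
    set E := π ^ 2 * σ ρ - π * σ π with hE
    set P : F → F := fun Y => φ₀ / π *
      (π * σ π * (E + σ E) - Y / 2 * (J * σ E) + Y * Y / (2 * 2 * 2) * (J * J)) with hP
    have hPY : ∀ Y, σ Y = Y → Y ≠ 0 → σ (P Y) = P Y := by
      intro Y hY hY0
      obtain ⟨d, hd, hdu, hdd⟩ := hval Y hY
      set c := cv d
      have hcc : f c c = Y := (hcvf _ _ hdu hdu).trans hdd
      have hc : cj c = ρ • c := hsame d hd hdu (hdd ▸ hY0)
      have hk := hcvk d hd hdu
      rw [hcc] at hk
      have hκ : f c (cj c) = σ ρ * Y := by rw [hc, u_smul_right hf, hcc]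
      have ht : σ (-Y / 2) = -Y / 2 := by rw [map_div₀, map_neg, hY, map_ofNat]
      have hw : ∀ w, cj w = w → f w p = 0 → σ (f w c / π * (π * σ π * (Y * E + σ (Y * E)) +
          -Y / 2 * J * σ (Y * E) - (-Y / 2) ^ 3 * J * J)) = f w c / π * (π * σ π * (Y * E + σ (Y * E)) +
          -Y / 2 * J * σ (Y * E) - (-Y / 2) ^ 3 * J * J) := fun w hw hwp =>
        minusH_eq C hM K hG hno hpp hν hk (hcvq d) hζ' hJ ht (div_ne_zero (neg_ne_zero.2 hY0) h2) hκ hw hwp
          hπ (by rw [hE]; field_simp; ring) hJd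
      have hwP : ∀ w, cj w = w → f w p = 0 → f w c = Y * φ₀ → σ (P Y) = P Y := by
        intro w hw' hwp hwc
        have h := hw w hw' hwp
        have he : f w c / π * (π * σ π * (Y * E + σ (Y * E)) + -Y / 2 * J * σ (Y * E) -
            (-Y / 2) ^ 3 * J * J) = Y * Y * P Y := by
          simp only [hwc, hP, map_mul, hY]
          field_simp
          ring
        rw [he, map_mul, map_mul, hY] at h
        exact mul_left_cancel₀ (mul_ne_zero hY0 hY0) h
      have hcp : f c p = 0 := hcvp d hdu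
      have hccp : f (cj c) p = 0 := by rw [C.form_left, hcvq d, map_zero]
      rcases hφ with hφ | hφ
      · exact hwP _ (C.re_rat c) (by rw [u_add_left hf, hcp, hccp, add_zero])
          (by rw [u_add_left hf, hc, u_smul_left hf, hcc, hφ]; ring)
      · exact hwP _ (C.im_rat hθ c) (by rw [u_smul_left hf, u_sub_left hf, hcp, hccp]; ring)
          (by rw [u_smul_left hf, u_sub_left hf, hc, u_smul_left hf, hcc, hφ]; ring)
    have h1 := hPY 1 (map_one σ) one_ne_zero
    have h1' := hPY (-1) (by rw [map_neg, map_one]) (neg_ne_zero.2 one_ne_zero)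
    have hm := hPY m K.real K.real0
    have hm' := hPY (-m) (by rw [map_neg, K.real]) (neg_ne_zero.2 K.real0)
    have e : P 1 + P (-1) - P m - P (-m) = φ₀ / π * ((1 - m * m) / (2 * 2) * (J * J)) := by
      simp only [hP]; field_simp; ring
    have h := congrArg σ e
    rw [map_sub, map_sub, map_add, h1, h1', hm, hm', e, map_mul,
      show σ ((1 - m * m) / (2 * 2) * (J * J)) = (1 - m * m) / (2 * 2) * (J * J) by
        rw [map_mul, map_div₀, map_sub, map_mul, map_mul, map_mul, map_one, map_ofNat, K.real, hσJ, neg_mul_neg]] at h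
    have h4 : (2 : F) * 2 ≠ 0 := mul_ne_zero h2 h2
    exact (mul_right_cancel₀ (mul_ne_zero (div_ne_zero (sub_ne_zero.2 (Ne.symm K.real1)) h4)
      (mul_ne_zero hJ0 hJ0)) h).symm
  have f1 := hfinal _ hζ0 hζJ
  have f2 := hfinal (θ * (θ / s)) (mul_ne_zero hθ0 hζ0) (by
    rw [show θ * (θ / s) * (θ * (θ / s)) * ν = θ * θ * (θ / s * (θ / s) * ν) by ring, map_mul, hζJ, map_mul, hθ]
    ring)
  set w := φ₀ / (σ (θ / s) * σ ν) with hw
  have hw0 : w ≠ 0 := div_ne_zero hφ0 (mul_ne_zero ((map_ne_zero_iff σ σ.injective).2 hζ0) hσν)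
  have e : φ₀ / (σ (θ * (θ / s)) * σ ν) = -w / θ := by rw [map_mul, hθ, hw]; ring
  rw [e, map_div₀, map_neg, f1, hθ, neg_div_neg_eq] at f2
  field_simp at f2
  exact h2 (by linear_combination f2)

end Cfsg.Agent.H12.SUFour.Orth
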